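import Mathlib
import Cfsg.Agent.Lib.CharP.CharP
import Cfsg.Agent.Lib.CharP.PReduced
import Cfsg.Agent.Lib.CharP.PushOne.Tools

/-!
Natural blocks over a `2`-group `B`: two of them either commute or share their commutator with `B`, and
then commuting is an equivalence with at most two classes.
-/

set_option autoImplicit false
set_option linter.unusedSectionVars false
set_option linter.style.longLine false

namespace Cfsg.Agent.PLocal.CommonNormal

open Cfsg Subgroup
open scoped commutatorElement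

variable {G : Type*} [Group G]

/-- What is used of the module `W` of a natural block over a `2`-group `B`; `N` stands for the part
centralised by the block. -/
structure Node (B W N : Subgroup G) : Prop where
  wB : W ≤ B
  abel : ∀ u ∈ W, ∀ v ∈ W, u * v = v * u
  sq : ∀ u ∈ W, u * u = 1
  bW : B ≤ normalizer (W : Set G)
  comm : ∀ c ∈ B, c ∈ centralizer (W : Set G) → ∀ d ∈ B, d ∈ centralizer (W : Set G) → ⁅c, d⁆ ∈ N
  sqN : ∀ c ∈ B, c ∈ centralizer (W : Set G) → c * c ∈ N
  line : ∀ b ∈ B, b ∉ centralizer (W : Set G) → ∀ w ∈ W, ⁅w, b⁆ ∈ N → w ∈ centralizer (B : Set G)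
  idx : (centralizer (B : Set G)).relIndex W = (centralizer (W : Set G)).relIndex B
  ymove : ¬ ⁅W, B⁆ ≤ N

section Map

variable {G' : Type*} [Group G'] {B W : Subgroup G}

theorem mem_centralizer_map {φ : G →* G'} (hφ : Function.Injective φ) (X : Subgroup G) (x : G) :
    φ x ∈ centralizer (X.map φ : Set G') ↔ x ∈ centralizer (X : Set G) := by
  constructor
  · intro hx y hy
    exact hφ (by rw [map_mul, map_mul]; exact hx _ ⟨y, hy, rfl⟩)
  · rintro hx _ ⟨y, hy, rfl⟩
    rw [← map_mul, ← map_mul, hx y hy]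

theorem le_normalizer_map' {φ : G →* G'} {X Y : Subgroup G} (h : X ≤ normalizer (Y : Set G)) :
    X.map φ ≤ normalizer (Y.map φ : Set G') :=
  (map_mono h).trans (Subgroup.le_normalizer_map φ)

theorem relIndex_map' {φ : G →* G'} (hφ : Function.Injective φ) (X Y : Subgroup G) :
    (centralizer (X.map φ : Set G')).relIndex (Y.map φ) = (centralizer (X : Set G)).relIndex Y := by
  have e : centralizer (X.map φ : Set G') ⊓ Y.map φ = (centralizer (X : Set G) ⊓ Y).map φ := by
    ext z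
    constructor
    · rintro ⟨hz, y, hy, rfl⟩
      exact ⟨y, ⟨(mem_centralizer_map hφ X y).1 hz, hy⟩, rfl⟩
    · rintro ⟨y, ⟨hy1, hy2⟩, rfl⟩
      exact ⟨(mem_centralizer_map hφ X y).2 hy1, y, hy2, rfl⟩
  rw [← inf_relIndex_right, e, relIndex_map_map_of_injective _ _ hφ, inf_relIndex_right]

theorem Node.map {N : Subgroup G} (h : Node B W N) {φ : G →* G'} (hφ : Function.Injective φ) :
    Node (B.map φ) (W.map φ) (N.map φ) where
  wB := map_mono h.wB
  abel := by
    rintro _ ⟨u, hu, rfl⟩ _ ⟨v, hv, rfl⟩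
    rw [← map_mul, ← map_mul, h.abel u hu v hv]
  sq := by
    rintro _ ⟨u, hu, rfl⟩
    rw [← map_mul, h.sq u hu, map_one]
  bW := le_normalizer_map' h.bW
  comm := by
    rintro _ ⟨c, hc, rfl⟩ hcW _ ⟨d, hd, rfl⟩ hdW
    rw [← map_commutatorElement]
    exact ⟨_, h.comm c hc ((mem_centralizer_map hφ W c).1 hcW) d hd ((mem_centralizer_map hφ W d).1 hdW), rfl⟩
  sqN := by
    rintro _ ⟨c, hc, rfl⟩ hcW
    exact ⟨_, h.sqN c hc ((mem_centralizer_map hφ W c).1 hcW), map_mul φ c c⟩
  line := by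
    rintro _ ⟨b, hb, rfl⟩ hbn _ ⟨w, hw, rfl⟩ hc
    rw [← map_commutatorElement] at hc
    exact (mem_centralizer_map hφ B w).2 (h.line b hb
      (fun hb' => hbn ((mem_centralizer_map hφ W b).2 hb')) w hw ((mem_map_iff_mem hφ).1 hc))
  idx := by rw [relIndex_map' hφ, relIndex_map' hφ, h.idx]
  ymove hle := h.ymove ((map_le_map_iff_of_injective hφ).1 (map_commutator (f := φ) W B ▸ hle))

end Map

/-- A node seen inside a subgroup containing `B`. -/
theorem Node.subgroupOf {B W N H : Subgroup G} (h : Node B W N) (hBH : B ≤ H) :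
    Node (B.subgroupOf H) (W.subgroupOf H) (N.subgroupOf H) := by
  have hWH : W ≤ H := h.wB.trans hBH
  have eB : (B.subgroupOf H).map H.subtype = B := map_subgroupOf_eq_of_le hBH
  have eW : (W.subgroupOf H).map H.subtype = W := map_subgroupOf_eq_of_le hWH
  have hc : ∀ {x : ↥H} {X : Subgroup G}, X ≤ H →
      (x ∈ centralizer (X.subgroupOf H : Set ↥H) ↔ (x : G) ∈ centralizer (X : Set G)) := fun {x X} hX => by
    rw [← mem_centralizer_map H.subtype_injective (X.subgroupOf H) x, map_subgroupOf_eq_of_le hX]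
    rfl
  refine ⟨comap_mono h.wB, fun u hu v hv => Subtype.ext (h.abel _ hu _ hv),
    fun u hu => Subtype.ext (h.sq _ hu), fun b hb => ?_,
    fun c hcB hcW d hdB hdW => h.comm _ hcB ((hc hWH).1 hcW) _ hdB ((hc hWH).1 hdW),
    fun c hcB hcW => h.sqN _ hcB ((hc hWH).1 hcW),
    fun b hb hbn w hw hwn => (hc hBH).2 (h.line _ hb (fun e => hbn ((hc hWH).2 e)) _ hw hwn), ?_, ?_⟩
  · rw [mem_normalizer_iff]
    exact fun x => mem_normalizer_iff.1 (h.bW hb) (x : G)
  · have h1 := relIndex_map' H.subtype_injective (B.subgroupOf H) (W.subgroupOf H)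
    have h2 := relIndex_map' H.subtype_injective (W.subgroupOf H) (B.subgroupOf H)
    rw [eB, eW] at h1 h2
    rw [← h1, ← h2, h.idx]
  · intro hle
    refine h.ymove ?_
    have h1 : (⁅W.subgroupOf H, B.subgroupOf H⁆).map H.subtype ≤ (N.subgroupOf H).map H.subtype := map_mono hle
    rw [map_commutator, eB, eW] at h1
    exact h1.trans (map_comap_le _ _)

/-- Conjugate of a subgroup. -/
abbrev cj (g : G) (X : Subgroup G) : Subgroup G := X.map (MulAut.conj g).toMonoidHom

theorem cj_cj (g k : G) (X : Subgroup G) : cj g (cj k X) = cj (g * k) X := by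
  rw [cj, cj, cj, Subgroup.map_map]
  refine congrArg (fun f => X.map f) (MonoidHom.ext fun x => ?_)
  simp [mul_assoc]

theorem cj_one (X : Subgroup G) : cj 1 X = X := by
  rw [cj]; ext x; simp [Subgroup.mem_map]

theorem cj_mono (g : G) {X Y : Subgroup G} (h : X ≤ Y) : cj g X ≤ cj g Y := map_mono h

theorem cj_of_mem {g : G} {X : Subgroup G} (h : g ∈ normalizer (X : Set G)) : cj g X = X :=
  mem_normalizer_iff_map_conj_eq.1 h

theorem cj_centralizer (g : G) {X Y : Subgroup G} :
    cj g X ≤ centralizer (cj g Y : Set G) ↔ X ≤ centralizer (Y : Set G) := by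
  constructor
  · intro h x hx
    exact (mem_centralizer_map (MulAut.conj g).injective Y x).1 (h ⟨x, hx, rfl⟩)
  · rintro h _ ⟨x, hx, rfl⟩
    exact (mem_centralizer_map (MulAut.conj g).injective Y x).2 (h hx)

theorem le_normalizer_of_cj [Finite G] {X Y : Subgroup G} (h : ∀ x ∈ X, cj x Y ≤ Y) :
    X ≤ normalizer (Y : Set G) := fun x hx =>
  mem_normalizer_iff_map_conj_eq.2 (eq_of_le_of_card_ge (h x hx)
    (card_map_of_injective (MulAut.conj x).injective).ge)

theorem Node.cj {B W N : Subgroup G} (h : Node B W N) {g : G} (hg : g ∈ normalizer (B : Set G)) :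
    Node B (cj g W) (cj g N) := by
  have h1 := h.map (φ := (MulAut.conj g).toMonoidHom) (MulAut.conj g).injective
  have e : B.map (MulAut.conj g).toMonoidHom = B := mem_normalizer_iff_map_conj_eq.1 hg
  rwa [e] at h1

namespace Node

variable [Finite G] {B W N W' N' : Subgroup G}

theorem w_le_cent (h : Node B W N) : centralizer (B : Set G) ≤ centralizer (W : Set G) :=
  Subgroup.centralizer_le h.wB

theorem inf_cent (h : Node B W N) (h' : Node B W' N') (hne : ¬ W' ≤ centralizer (W : Set G))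
    {u : G} (hu : u ∈ W) (hu' : u ∈ centralizer (W' : Set G)) : u ∈ centralizer (B : Set G) := by
  obtain ⟨b, hb, hbn⟩ := Set.not_subset.1 (fun hs => hne fun x hx => hs hx)
  refine h.line b (h'.wB hb) hbn u hu ?_
  rw [commutatorElement_eq_one_iff_mul_comm.2 (hu' b hb).symm]
  exact one_mem _

theorem not_le_symm (hne : ¬ W' ≤ centralizer (W : Set G)) : ¬ W ≤ centralizer (W' : Set G) :=
  fun h => hne (le_centralizer_iff.1 h)

theorem cent_eq (h : Node B W N) (h' : Node B W' N') (hne : ¬ W' ≤ centralizer (W : Set G)) :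
    centralizer (W' : Set G) ⊓ W = centralizer (B : Set G) ⊓ W :=
  le_antisymm (fun _ hu => ⟨h.inf_cent h' hne hu.2 hu.1, hu.2⟩) (inf_le_inf_right _ h'.w_le_cent)

/-- A noncommuting partner covers `B` over the kernel. -/
theorem cover (h : Node B W N) (h' : Node B W' N') (hne : ¬ W' ≤ centralizer (W : Set G))
    {x : G} (hx : x ∈ B) : ∃ u ∈ W', ∃ c ∈ B, c ∈ centralizer (W : Set G) ∧ x = u * c := by
  set C := centralizer (W : Set G) with hC
  have e1 : C.relIndex W' = (centralizer (B : Set G)).relIndex W' := by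
    rw [← inf_relIndex_right, h'.cent_eq h (not_le_symm hne), inf_relIndex_right]
  have e2 : (centralizer (W' : Set G)).relIndex W = (centralizer (B : Set G)).relIndex W := by
    rw [← inf_relIndex_right, h.cent_eq h' hne, inf_relIndex_right]
  have l1 : C.relIndex W' ≤ C.relIndex B := relIndex_le_of_le_right h'.wB index_ne_zero_of_finite
  have l2 : (centralizer (W' : Set G)).relIndex W ≤ (centralizer (W' : Set G)).relIndex B :=
    relIndex_le_of_le_right h.wB index_ne_zero_of_finite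
  rw [e2, h.idx, ← h'.idx, ← e1] at l2
  have he : C.relIndex B ≤ C.relIndex W' := l2
  have hn : W' ≤ normalizer ((B ⊓ C : Subgroup G) : Set G) :=
    (h'.wB.trans (le_inf Subgroup.le_normalizer (h.bW.trans (CharP.normalizer_le_normalizer_centralizer W)))).trans
      inf_normalizer_le_normalizer_inf
  have htop : W' ⊔ (B ⊓ C) = B := by
    set K := W' ⊔ (B ⊓ C) with hK
    have hKB : K ≤ B := sup_le h'.wB inf_le_left
    refine eq_of_le_of_card_ge hKB ?_
    have hKC : C ⊓ K = C ⊓ B :=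
      le_antisymm (inf_le_inf_left C hKB) fun y hy => ⟨hy.1, mem_sup_right ⟨hy.2, hy.1⟩⟩
    have h1 : Nat.card ↥(C ⊓ K) * C.relIndex K = Nat.card K := by
      rw [← inf_relIndex_right C K, ← relIndex_bot_left, ← relIndex_bot_left,
        relIndex_mul_relIndex ⊥ _ _ bot_le inf_le_right]
    have h2 : Nat.card ↥(C ⊓ B) * C.relIndex B = Nat.card B := by
      rw [← inf_relIndex_right C B, ← relIndex_bot_left, ← relIndex_bot_left,
        relIndex_mul_relIndex ⊥ _ _ bot_le inf_le_right]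
    rw [← h1, ← h2, hKC]
    exact Nat.mul_le_mul_left _ (he.trans (relIndex_le_of_le_right le_sup_left index_ne_zero_of_finite))
  obtain ⟨u, hu, c, hc, e⟩ := CharP.PushOne.exists_mul hn (htop.ge hx)
  exact ⟨u, hu, c, hc.1, hc.2, e⟩

theorem comm_eq (h : Node B W N) (h' : Node B W' N') (hne : ¬ W' ≤ centralizer (W : Set G)) :
    ⁅W, B⁆ = ⁅W, W'⁆ := by
  refine le_antisymm (commutator_le.2 fun u hu x hx => ?_) (commutator_mono le_rfl h'.wB)
  obtain ⟨u', hu', c, -, hc, rfl⟩ := h.cover h' hne hx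
  rw [commutatorElement_mul_right_eq_mul_conj, commutatorElement_eq_one_iff_mul_comm.2 (hc u hu),
    mul_one, mul_inv_cancel_right]
  exact commutator_mem_commutator hu hu'

theorem y_eq (h : Node B W N) (h' : Node B W' N') (hne : ¬ W' ≤ centralizer (W : Set G)) :
    ⁅W', B⁆ = ⁅W, B⁆ := by
  rw [h'.comm_eq h (not_le_symm hne), h.comm_eq h' hne, commutator_comm]

/-- A noncommuting pair cannot commute with a block of the same commutator. -/
theorem pair {W₁ N₁ W₂ N₂ : Subgroup G} (h : Node B W N) (h₁ : Node B W₁ N₁) (h₂ : Node B W₂ N₂)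
    (c₁ : W₁ ≤ centralizer (W : Set G)) (c₂ : W₂ ≤ centralizer (W : Set G))
    (hne : ¬ W₂ ≤ centralizer (W₁ : Set G)) : ⁅W₁, B⁆ ≤ N := by
  rw [h₁.comm_eq h₂ hne]
  exact commutator_le.2 fun a ha b hb => h.comm _ (h₁.wB ha) (c₁ ha) _ (h₂.wB hb) (c₂ hb)

theorem no_triangle {W'' N'' : Subgroup G} (h : Node B W N) (h' : Node B W' N')
    (h'' : Node B W'' N'') (n1 : ¬ W' ≤ centralizer (W : Set G))
    (n2 : ¬ W'' ≤ centralizer (W : Set G)) (n3 : ¬ W'' ≤ centralizer (W' : Set G)) : False := by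
  obtain ⟨a, ha, han⟩ := Set.not_subset.1 (fun hs => n2 fun x hx => hs hx)
  obtain ⟨b, hb, hbn⟩ := Set.not_subset.1 (fun hs => n3 fun x hx => hs hx)
  obtain ⟨x, hx, hxW, hxW'⟩ : ∃ x ∈ W'', x ∉ centralizer (W : Set G) ∧ x ∉ centralizer (W' : Set G) := by
    by_cases h1 : a ∈ centralizer (W' : Set G)
    · by_cases h2 : b ∈ centralizer (W : Set G)
      · exact ⟨a * b, mul_mem ha hb, fun e => han ((Subgroup.mul_mem_cancel_right _ h2).1 e),
          fun e => hbn ((Subgroup.mul_mem_cancel_left _ h1).1 e)⟩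
      · exact ⟨b, hb, h2, hbn⟩
    · exact ⟨a, ha, han, h1⟩
  obtain ⟨u', hu', c₁, hc₁B, hc₁, rfl⟩ := h.cover h' n1 (h''.wB hx)
  obtain ⟨u, hu, c, hcB, hcW', rfl⟩ := h'.cover h (not_le_symm n1) hc₁B
  have huW : u ∈ centralizer (W : Set G) := fun z hz => h.abel z hz u hu
  have hu'W' : u' ∈ centralizer (W' : Set G) := fun z hz => h'.abel z hz u' hu'
  have hcW : c ∈ centralizer (W : Set G) := (Subgroup.mul_mem_cancel_left _ huW).1 hc₁
  have hu'n : u' ∉ centralizer (W : Set G) := fun e => hxW (mul_mem e (mul_mem huW hcW))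
  have hsq := h''.sq _ hx
  have hcu : Commute u c := hcW u hu
  have hcu' : Commute u' c := hcW' u' hu'
  have hcc : Commute (u' * u) c := hcu'.mul_left hcu
  have e2 : ⁅u', u⁆ = (c * c)⁻¹ := by
    refine eq_inv_of_mul_eq_one_left ?_
    have h1 : ⁅u', u⁆ = (u' * u) * (u' * u) := by
      rw [commutatorElement_def, inv_eq_of_mul_eq_one_right (h.sq u hu),
        inv_eq_of_mul_eq_one_right (h'.sq u' hu')]
      group
    rw [h1, ← hsq, ← mul_assoc u' u c,
      show u' * u * c * (u' * u * c) = u' * u * (c * (u' * u)) * c by group, ← hcc.eq]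
    group
  have e3 : ⁅u, u'⁆ ∈ N := by
    rw [← commutatorElement_inv, e2, inv_inv]
    exact h.sqN c hcB hcW
  have h4 := h.line u' (h'.wB hu') hu'n u hu e3
  exact hxW' (mul_mem hu'W' (mul_mem (Subgroup.centralizer_le h'.wB h4) hcW'))

end Node

/-- Among the conjugates with one commutator, commuting with `W` is a subgroup of index `2`. -/
theorem Node.exists_index_two {B W N M₀ : Subgroup G} [Finite G] (hW : Node B W N)
    (hMB : M₀ ≤ normalizer (B : Set G)) {m : G} (hm : m ∈ M₀)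
    (hmW : ¬ CommonNormal.cj m W ≤ centralizer (W : Set G)) :
    m ∈ normalizer ((⁅W, B⁆ : Subgroup G) : Set G) ∧ ∃ S : Subgroup G, S ≤ M₀ ⊓ normalizer ((⁅W, B⁆ : Subgroup G) : Set G) ∧
      S.relIndex (M₀ ⊓ normalizer ((⁅W, B⁆ : Subgroup G) : Set G)) = 2 ∧
      ∀ k ∈ M₀ ⊓ normalizer ((⁅W, B⁆ : Subgroup G) : Set G), CommonNormal.cj k W ≤ centralizer (W : Set G) → k ∈ S := by
  have blk : ∀ {g : G}, g ∈ M₀ → Node B (CommonNormal.cj g W) (CommonNormal.cj g N) := fun hg => hW.cj (hMB hg)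
  set Y := ⁅W, B⁆ with hY
  have yconj : ∀ {g : G}, g ∈ M₀ → ⁅CommonNormal.cj g W, B⁆ = CommonNormal.cj g Y := fun {g} hg => by
    show _ = (⁅W, B⁆).map _
    rw [map_commutator]
    exact congrArg₂ _ rfl (cj_of_mem (hMB hg)).symm
  set K₀ := M₀ ⊓ normalizer (Y : Set G) with hK₀
  have ynode : ∀ {k : G}, k ∈ K₀ → ⁅CommonNormal.cj k W, B⁆ = Y := fun {k} hk => by
    rw [yconj hk.1, cj_of_mem hk.2]
  have hmY : m ∈ normalizer (Y : Set G) := mem_normalizer_iff_map_conj_eq.2
    ((yconj hm).symm.trans (hW.y_eq (blk hm) hmW))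
  have hmK : m ∈ K₀ := Subgroup.mem_inf.2 ⟨hm, hmY⟩
  let S : Subgroup G :=
    { carrier := {k | k ∈ K₀ ∧ CommonNormal.cj k W ≤ centralizer (W : Set G)}
      one_mem' := ⟨one_mem _, by rw [cj_one]; exact fun x hx z hz => hW.abel z hz x hx⟩
      mul_mem' := by
        rintro k l ⟨hk, hkc⟩ ⟨hl, hlc⟩
        refine ⟨mul_mem hk hl, ?_⟩
        by_contra hne
        have h1 : CommonNormal.cj (k * l) W ≤ centralizer (CommonNormal.cj k W : Set G) := by
          rw [← cj_cj, cj_centralizer]; exact hlc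
        have h2 := (blk hk.1).pair (blk (mul_mem hk hl).1) hW h1 (le_centralizer_iff.1 hkc)
          (Node.not_le_symm hne)
        rw [ynode (mul_mem hk hl), ← ynode hk] at h2
        exact (blk hk.1).ymove h2
      inv_mem' := by
        rintro k ⟨hk, hkc⟩
        refine ⟨inv_mem hk, ?_⟩
        rw [← cj_centralizer k, cj_cj, mul_inv_cancel, cj_one, le_centralizer_iff]
        exact hkc }
  have hdiff : ∀ {k l : G}, k ∈ K₀ → l ∈ K₀ → k ∉ S → l ∉ S → k⁻¹ * l ∈ S := by
    intro k l hk hl hkS hlS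
    refine ⟨mul_mem (inv_mem hk) hl, ?_⟩
    by_contra hne
    refine hW.no_triangle (blk hk.1) (blk hl.1) (fun e => hkS ⟨hk, e⟩) (fun e => hlS ⟨hl, e⟩)
      fun e => hne ?_
    rw [← cj_centralizer k, cj_cj, mul_inv_cancel_left]
    exact e
  refine ⟨hmY, S, fun k hk => hk.1, ?_, fun k hk hc => ⟨hk, hc⟩⟩
  rw [relIndex, index_eq_two_iff]
  refine ⟨⟨m, hmK⟩, fun b => ?_⟩
  simp only [Subgroup.mem_subgroupOf, Subgroup.coe_mul]
  by_cases hb : (b : G) ∈ S
  · refine Or.inr ⟨hb, fun e => hmW ?_⟩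
    have := mul_mem (inv_mem hb) e
    rw [inv_mul_cancel_left] at this
    exact this.2
  · refine Or.inl ⟨?_, hb⟩
    have := hdiff (inv_mem b.2) hmK (fun e => hb (by simpa using inv_mem e)) (fun e => hmW e.2)
    rwa [inv_inv] at this

/-- A normal `2`-subgroup of odd index leaves no room for two classes: all conjugates commute. -/
theorem Node.commute_of_odd_index {B W N S₀ : Subgroup G} [Finite G] (hW : Node B W N) [S₀.Normal]
    (hodd : Odd S₀.index) (hB : ∀ g : G, g ∈ normalizer (B : Set G))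
    (hS : ∀ s ∈ S₀, CommonNormal.cj s W ≤ centralizer (W : Set G)) (g : G) :
    CommonNormal.cj g W ≤ centralizer (W : Set G) := by
  by_contra hgW
  obtain ⟨-, S, hSK, hidx, hmem⟩ := hW.exists_index_two (M₀ := ⊤) (fun x _ => hB x) (mem_top g) hgW
  set K₀ := (⊤ : Subgroup G) ⊓ normalizer ((⁅W, B⁆ : Subgroup G) : Set G)
  have h1 : (S₀ ⊓ K₀).relIndex K₀ ∣ S₀.index := by
    rw [inf_relIndex_right]; exact relIndex_dvd_index_of_normal _ _
  have h2 : 2 ∣ (S₀ ⊓ K₀).relIndex K₀ := by
    rw [← hidx, ← relIndex_mul_relIndex (S₀ ⊓ K₀) S K₀ (fun x hx => hmem x hx.2 (hS x hx.1)) hSK]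
    exact Dvd.intro_left _ rfl
  exact (Nat.not_even_iff_odd.2 hodd) ((even_iff_two_dvd).2 (h2.trans h1))

end Cfsg.Agent.PLocal.CommonNormal
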