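import Mathlib
import Cfsg.Agent.Lib.CharP.CharP
import Cfsg.Agent.Lib.CharP.PReduced
import Cfsg.Agent.Lib.PLocal.CommonNormal.Node
import Cfsg.Prelude.Def_ClassificationK

/-!
Natural blocks over a `2`-group `B`: two of them either commute or share their commutator with `B`, and
then commuting is an equivalence with at most two classes.
-/

set_option autoImplicit false
set_option linter.unusedSectionVars false
set_option linter.style.longLine false

namespace Cfsg.Agent.PLocal.CommonNormal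

open Cfsg Subgroup
open scoped commutatorElement

variable {G : Type*} [Group G]

/-- What is used of a natural block `E` with module `W` over a `2`-group `B`. -/
structure BBlock (B E W : Subgroup G) : Prop where
  wB : W ≤ B
  wE : W ≤ E
  abel : ∀ u ∈ W, ∀ v ∈ W, u * v = v * u
  sq : ∀ u ∈ W, u * u = 1
  gen : ∀ N : Subgroup G, (∀ x ∈ E, Odd (orderOf x) → x ∈ N) → E ≤ N
  bE : B ≤ normalizer (E : Set G)
  eW : E ≤ normalizer (W : Set G)
  bW : B ≤ normalizer (W : Set G)
  core : ∀ S : Subgroup G, S ≤ E → IsPGroup 2 S → E ≤ normalizer (S : Set G) → S ≤ W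
  cent : ∀ x ∈ B, (∀ e ∈ E, ⁅x, e⁆ ∈ W) → x ∈ centralizer (W : Set G)
  conv : ∀ x ∈ B, x ∈ centralizer (W : Set G) → ∀ e ∈ E, ⁅x, e⁆ ∈ W
  irr : ∀ S : Subgroup G, S ≤ W → E ≤ normalizer (S : Set G) → B ≤ normalizer (S : Set G) →
    S ≤ centralizer (E : Set G) ∨ W ≤ S
  ymove : ¬ ⁅W, B⁆ ≤ centralizer (E : Set G)
  line : ∀ b ∈ B, b ∉ centralizer (W : Set G) → ∀ w ∈ W, ⁅w, b⁆ ∈ centralizer (E : Set G) →
    w ∈ centralizer (B : Set G)
  idx : (centralizer (B : Set G)).relIndex W = (centralizer (W : Set G)).relIndex B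

section Map

variable {G' : Type*} [Group G'] {B E W : Subgroup G}

theorem BBlock.map (h : BBlock B E W) {φ : G →* G'} (hφ : Function.Injective φ) :
    BBlock (B.map φ) (E.map φ) (W.map φ) where
  wB := map_mono h.wB
  wE := map_mono h.wE
  abel := by
    rintro _ ⟨u, hu, rfl⟩ _ ⟨v, hv, rfl⟩
    rw [← map_mul, ← map_mul, h.abel u hu v hv]
  sq := by
    rintro _ ⟨u, hu, rfl⟩
    rw [← map_mul, h.sq u hu, map_one]
  gen N hN := map_le_iff_le_comap.2 (h.gen _ fun x hx ho =>
    hN _ ⟨x, hx, rfl⟩ (by rwa [orderOf_injective φ hφ]))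
  bE := le_normalizer_map' h.bE
  eW := le_normalizer_map' h.eW
  bW := le_normalizer_map' h.bW
  core S hS hp hn := by
    have e : (S.comap φ).map φ = S := map_comap_eq_self (hS.trans (map_le_range φ E))
    rw [← e]
    refine map_mono (h.core _ (fun x hx => ?_) (hp.comap_of_injective φ hφ) ?_)
    · obtain ⟨y, hy, hyx⟩ := hS hx
      exact hφ hyx ▸ hy
    · intro x hx
      have hm := hn (⟨x, hx, rfl⟩ : φ x ∈ E.map φ)
      rw [mem_normalizer_iff] at hm ⊢
      intro y
      rw [Subgroup.mem_comap, Subgroup.mem_comap, hm (φ y), map_mul, map_mul, map_inv]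
  cent := by
    rintro _ ⟨x, hx, rfl⟩ hc
    refine (mem_centralizer_map hφ W x).2 (h.cent x hx fun e he => ?_)
    have h1 := hc _ ⟨e, he, rfl⟩
    rw [← map_commutatorElement] at h1
    exact (mem_map_iff_mem hφ).1 h1
  conv := by
    rintro _ ⟨x, hx, rfl⟩ hxc _ ⟨e, he, rfl⟩
    rw [← map_commutatorElement]
    exact ⟨_, h.conv x hx ((mem_centralizer_map hφ W x).1 hxc) e he, rfl⟩
  irr S hS hE hB := by
    have e : (S.comap φ).map φ = S := map_comap_eq_self (hS.trans (map_le_range φ W))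
    have hn : ∀ {X : Subgroup G}, X.map φ ≤ normalizer (S : Set G') →
        X ≤ normalizer (S.comap φ : Set G) := fun {X} hX x hx => by
      have hm := hX (⟨x, hx, rfl⟩ : φ x ∈ X.map φ)
      rw [mem_normalizer_iff] at hm ⊢
      intro y
      rw [Subgroup.mem_comap, Subgroup.mem_comap, hm (φ y), map_mul, map_mul, map_inv]
    rcases h.irr (S.comap φ) (fun x hx => (mem_map_iff_mem hφ).1 (hS hx)) (hn hE) (hn hB) with h1 | h1
    · refine Or.inl fun s hs => ?_
      obtain ⟨y, -, rfl⟩ := hS hs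
      exact (mem_centralizer_map hφ E y).2 (h1 hs)
    · exact Or.inr (e ▸ map_mono h1)
  ymove hle := h.ymove fun y hy => (mem_centralizer_map hφ E y).1
    (hle (map_commutator (f := φ) W B ▸ ⟨y, hy, rfl⟩))
  line := by
    rintro _ ⟨b, hb, rfl⟩ hbn _ ⟨w, hw, rfl⟩ hc
    rw [← map_commutatorElement] at hc
    exact (mem_centralizer_map hφ B w).2 (h.line b hb
      (fun hb' => hbn ((mem_centralizer_map hφ W b).2 hb')) w hw ((mem_centralizer_map hφ E _).1 hc))
  idx := by rw [relIndex_map' hφ, relIndex_map' hφ, h.idx]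

end Map

theorem BBlock.cj {B E W : Subgroup G} (h : BBlock B E W) {g : G} (hg : g ∈ normalizer (B : Set G)) :
    BBlock B (cj g E) (cj g W) := by
  have h1 := h.map (φ := (MulAut.conj g).toMonoidHom) (MulAut.conj g).injective
  have e : B.map (MulAut.conj g).toMonoidHom = B := mem_normalizer_iff_map_conj_eq.1 hg
  rwa [e] at h1

namespace BBlock

variable [Finite G] {B E W E' W' : Subgroup G}

theorem conj_eq (h : BBlock B E W) {c e : G} (hc : c ∈ B) (hcW : c ∈ centralizer (W : Set G))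
    (he : e ∈ E) : ∃ w ∈ W, e * c * e⁻¹ = w * c := by
  refine ⟨⁅c, e⁆⁻¹, inv_mem (h.conv c hc hcW e he), ?_⟩
  rw [commutatorElement_inv, commutatorElement_def, inv_mul_cancel_right]

/-- The commutators in the kernel are centralised by the block. -/
theorem comm_centralized (h : BBlock B E W) {c d : G} (hc : c ∈ B) (hcW : c ∈ centralizer (W : Set G))
    (hd : d ∈ B) (hdW : d ∈ centralizer (W : Set G)) : ⁅c, d⁆ ∈ centralizer (E : Set G) := by
  intro e he
  obtain ⟨w, hw, e1⟩ := h.conj_eq hc hcW he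
  obtain ⟨v, hv, e2⟩ := h.conj_eq hd hdW he
  have h3 : e * ⁅c, d⁆ * e⁻¹ = ⁅w * c, v * d⁆ := by
    rw [← e1, ← e2, ← MulAut.conj_apply, map_commutatorElement, MulAut.conj_apply, MulAut.conj_apply]
  have hvc : Commute v c := hcW v hv
  have hwd : Commute w d := hdW w hw
  have hwv : Commute w v := h.abel w hw v hv
  have h4 : ∀ x : G, x ∈ centralizer (W : Set G) → ⁅w, x⁆ = 1 := fun x hx =>
    commutatorElement_eq_one_iff_mul_comm.2 (hx w hw)
  have hvd : v * d ∈ centralizer (W : Set G) := mul_mem (fun z hz => h.abel z hz v hv) hdW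
  have h5 : ⁅w * c, v * d⁆ = ⁅c, d⁆ := by
    rw [commutatorElement_mul_left_eq_conj_mul, h4 _ hvd, mul_one, commutatorElement_mul_right_eq_mul_conj,
      commutatorElement_eq_one_iff_mul_comm.2 hvc.symm.eq, one_mul]
    have hv' : Commute v ⁅c, d⁆ := ((commutator_le_self (centralizer (W : Set G)))
      (commutator_mem_commutator hcW hdW) v hv)
    have hw' : Commute w ⁅c, d⁆ := ((commutator_le_self (centralizer (W : Set G)))
      (commutator_mem_commutator hcW hdW) w hw)
    rw [hv'.eq, mul_inv_cancel_right, hw'.eq, mul_inv_cancel_right]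
  rw [h5] at h3
  exact mul_inv_eq_iff_eq_mul.1 h3

theorem sq_centralized (h : BBlock B E W) {c : G} (hc : c ∈ B) (hcW : c ∈ centralizer (W : Set G)) :
    c * c ∈ centralizer (E : Set G) := by
  intro e he
  obtain ⟨w, hw, e1⟩ := h.conj_eq hc hcW he
  have h3 : e * (c * c) * e⁻¹ = c * c := by
    rw [show e * (c * c) * e⁻¹ = (e * c * e⁻¹) * (e * c * e⁻¹) by group, e1,
      show w * c * (w * c) = w * (c * w) * c by group, ← hcW w hw, ← mul_assoc, h.sq w hw, one_mul]
  exact mul_inv_eq_iff_eq_mul.1 h3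

theorem node (h : BBlock B E W) : Node B W (centralizer (E : Set G)) where
  wB := h.wB
  abel := h.abel
  sq := h.sq
  bW := h.bW
  comm := fun _ hc hcW _ hd hdW => h.comm_centralized hc hcW hd hdW
  sqN := fun _ hc hcW => h.sq_centralized hc hcW
  line := h.line
  idx := h.idx
  ymove := h.ymove

end BBlock

/-- The common normal subgroup. -/
theorem exists_common [Finite G] (T : Sylow 2 G) {M₀ B E W : Subgroup G}
    (heven : Cfsg.IsOfEvenCharacteristic G) (hTM : (T : Subgroup G) ≤ M₀) (hBT : B ≤ (T : Subgroup G))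
    (hMB : M₀ ≤ normalizer (B : Set G)) (hblk : BBlock B E W)
    (hpull : ∀ L : Subgroup G, CharP.IsCharP 2 L → (T : Subgroup G) ≤ L → E ≤ L → W ≤ Cfsg.pCoreOf 2 L)
    (hTW : ∀ t ∈ (T : Subgroup G), cj t W ≤ centralizer (W : Set G)) :
    ∀ m ∈ M₀, cj m W ≤ centralizer (W : Set G) := by
  intro m hmM
  by_contra hmW
  have blk : ∀ {g : G}, g ∈ M₀ → BBlock B (cj g E) (cj g W) := fun hg => hblk.cj (hMB hg)
  set Y := ⁅W, B⁆ with hY
  have yconj : ∀ {g : G}, g ∈ M₀ → ⁅cj g W, B⁆ = cj g Y := fun {g} hg => by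
    show _ = (⁅W, B⁆).map _
    rw [map_commutator]
    exact congrArg₂ _ rfl (cj_of_mem (hMB hg)).symm
  set K₀ := M₀ ⊓ normalizer (Y : Set G) with hK₀
  have ynode : ∀ {k : G}, k ∈ K₀ → ⁅cj k W, B⁆ = Y := fun {k} hk => by
    rw [yconj hk.1, cj_of_mem hk.2]
  obtain ⟨hmY, S, hSK, hidx, hmem⟩ := hblk.node.exists_index_two hMB hmM hmW
  have hmK : m ∈ K₀ := Subgroup.mem_inf.2 ⟨hmM, hmY⟩
  have hTS : (T : Subgroup G) ⊓ K₀ ≤ S := fun t ht => hmem t ht.2 (hTW t ht.1)
  -- a conjugate of the commutator outside the orbit of the Sylow subgroup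
  obtain ⟨g₀, hg₀⟩ : ∃ g, g ∈ M₀ ∧ ∀ t ∈ (T : Subgroup G), t⁻¹ * g ∉ normalizer (Y : Set G) := by
    by_contra hno
    push Not at hno
    have h1 : K₀.relIndex M₀ ≤ K₀.relIndex (T : Subgroup G) := by
      refine Nat.card_le_card_of_surjective
        (Quotient.map' (Subgroup.inclusion hTM) fun a b hab => by
          rw [QuotientGroup.leftRel_apply, Subgroup.mem_subgroupOf] at hab ⊢
          exact hab) ?_
      intro x
      induction x using Quotient.inductionOn' with
      | h x =>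
        obtain ⟨t, ht, htn⟩ := hno x x.2
        refine ⟨Quotient.mk'' ⟨t, ht⟩, Quotient.sound' ?_⟩
        rw [QuotientGroup.leftRel_apply, Subgroup.mem_subgroupOf]
        exact Subgroup.mem_inf.2 ⟨M₀.mul_mem (M₀.inv_mem (hTM ht)) x.2, htn⟩
    have h2 : K₀.relIndex M₀ = ((T : Subgroup G) ⊓ K₀).relIndex (T : Subgroup G) := by
      rw [inf_comm, inf_relIndex_right]
      exact le_antisymm h1 (relIndex_le_of_le_right hTM index_ne_zero_of_finite)
    have h3 := relIndex_mul_relIndex _ (T : Subgroup G) M₀ (inf_le_left (b := K₀)) hTM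
    have h4 := relIndex_mul_relIndex _ K₀ M₀ (inf_le_right (a := (T : Subgroup G))) inf_le_left
    rw [← h4, ← h2, mul_comm _ (K₀.relIndex M₀)] at h3
    have h5 : (T : Subgroup G).relIndex M₀ = ((T : Subgroup G) ⊓ K₀).relIndex K₀ :=
      Nat.eq_of_mul_eq_mul_left (Nat.pos_of_ne_zero index_ne_zero_of_finite) h3
    refine T.not_dvd_index ((dvd_of_eq hidx.symm).trans ?_)
    rw [← relIndex_mul_index hTM, h5, ← relIndex_mul_relIndex _ S K₀ hTS hSK]
    exact dvd_mul_of_dvd_left (Dvd.intro_left _ rfl) _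
  -- it is centralised by both blocks
  have hcent : ∀ {g : G}, g ∈ M₀ → g ∉ normalizer (Y : Set G) → ∀ {k : G}, k ∈ K₀ →
      cj g Y ≤ centralizer (cj k E : Set G) := by
    intro g hg hgn k hk
    have hne : ∀ {h : G}, h ∈ M₀ → cj h Y = cj g Y → cj h W ≤ centralizer (cj k W : Set G) := by
      intro h hh he
      by_contra hn
      refine hgn (mem_normalizer_iff_map_conj_eq.2 ?_)
      have h1 := (blk hk.1).node.y_eq (blk hh).node hn
      rw [yconj hh, ynode hk] at h1
      exact he.symm.trans h1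
    rw [← yconj hg]
    refine (blk hk.1).node.pair (blk hg).node (blk (mul_mem hg hmM)).node (hne hg rfl)
      (hne (mul_mem hg hmM) (by rw [← cj_cj, cj_of_mem hmK.2])) ?_
    rw [← cj_cj, cj_centralizer]
    exact hmW
  set Z := ⨆ g : {g : G // g ∈ M₀ ∧ ∀ t ∈ (T : Subgroup G), t⁻¹ * g ∉ normalizer (Y : Set G)},
    cj (g : G) Y with hZ
  have hYB : Y ≤ B := (commutator_mono hblk.wB le_rfl).trans (commutator_le_self B)
  have hZB : Z ≤ B := iSup_le fun g => (cj_mono _ hYB).trans (cj_of_mem (hMB g.2.1)).le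
  have hZne : Z ≠ ⊥ := by
    intro e
    have h1 : cj g₀ Y = ⊥ := le_bot_iff.1 (e ▸ (le_iSup_of_le ⟨g₀, hg₀⟩ le_rfl : cj g₀ Y ≤ Z))
    rw [cj, map_eq_bot_iff_of_injective _ (MulAut.conj g₀).injective] at h1
    refine hblk.ymove ?_
    rw [← hY, h1]
    exact bot_le
  have hTZ : (T : Subgroup G) ≤ normalizer (Z : Set G) := le_normalizer_of_cj fun t ht => by
    rw [cj, hZ, Subgroup.map_iSup]
    refine iSup_le fun g => ?_
    refine le_iSup_of_le ⟨t * g, mul_mem (hTM ht) g.2.1, fun s hs => ?_⟩ (cj_cj t (g : G) Y).le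
    rw [← mul_assoc, show s⁻¹ * t = (t⁻¹ * s)⁻¹ by group]
    exact g.2.2 _ (mul_mem (inv_mem ht) hs)
  set L := normalizer (Z : Set G) with hL
  have hE : ∀ {k : G}, k ∈ K₀ → cj k E ≤ L := fun {k} hk => by
    refine le_trans (le_centralizer_iff.1 (iSup_le fun g => ?_)) (centralizer_le_normalizer _)
    exact hcent g.2.1 (by simpa using g.2.2 1 (one_mem _)) hk
  have hEL : E ≤ L := cj_one E ▸ hE (one_mem K₀)
  have hE'L : cj m E ≤ L := hE hmK
  have hLc : CharP.IsCharP 2 L := (CharP.isCharP_iff L).2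
    (heven L ⟨Z, T.isPGroup'.to_le (hZB.trans hBT), hZne, rfl⟩ ⟨T, hTZ⟩)
  have hWQ := hpull L hLc hTZ hEL
  have h' := blk hmM
  refine hmW (le_centralizer_iff.1 fun x hx => h'.cent x (hblk.wB hx) fun e he => ?_)
  have hn : cj m E ≤ normalizer ((Cfsg.pCoreOf 2 L ⊓ cj m E : Subgroup G) : Set G) :=
    (le_inf (hE'L.trans (CharP.le_normalizer_pCoreOf 2 L)) Subgroup.le_normalizer).trans
      inf_normalizer_le_normalizer_inf
  refine h'.core _ inf_le_right ((CharP.isPGroup_pCoreOf 2 L).to_le inf_le_left) hn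
    (Subgroup.mem_inf.2 ⟨?_, ?_⟩)
  · rw [commutatorElement_def, show x * e * x⁻¹ * e⁻¹ = x * (e * x⁻¹ * e⁻¹) by group]
    exact mul_mem (hWQ hx) ((mem_normalizer_iff.1 (CharP.le_normalizer_pCoreOf 2 L (hE'L he)) _).1
      (inv_mem (hWQ hx)))
  · exact mul_mem ((mem_normalizer_iff.1 (h'.bE (hblk.wB hx)) e).1 he) (inv_mem he)

end Cfsg.Agent.PLocal.CommonNormal
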