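import Cfsg.Agent.Lib.PLocal.CommonNormal.Seed
import Cfsg.Prelude.Def_Quasithin

/-!
A common normal `2`-subgroup of a pair of `2`-local subgroups over a Sylow `2`-subgroup.
-/

set_option autoImplicit false
set_option linter.unusedSectionVars false
set_option linter.style.longLine false
set_option linter.style.haveILetI false

namespace Cfsg.Agent.PLocal.CommonNormal

open Cfsg Subgroup
open scoped commutatorElement

variable {G : Type*} [Group G] [Finite G]

theorem isCharP_of_sylow_le {T H L : Subgroup G} (hL : CharP.IsCharP 2 L) (hT : CharP.IsSylIn 2 T L)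
    (hTH : T ≤ H) (hHL : H ≤ L) : CharP.IsCharP 2 H := by
  have hle := CharP.pCoreOf_le_of_parabolic hT hTH hHL
  exact fun x hx => hle (hL ⟨hHL hx.1, Subgroup.centralizer_le (SetLike.coe_subset_coe.2 hle) hx.2⟩)

theorem oddGenerated_sup {T : Sylow 2 G} {H : Subgroup G} (hTH : (T : Subgroup G) ≤ H) :
    oddGenerated H ⊔ (T : Subgroup G) = H := by
  set K := oddGenerated H ⊔ (T : Subgroup G) with hK
  have hKH : K ≤ H := sup_le ((closure_le _).2 fun x hx => hx.1) hTH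
  refine le_antisymm hKH ?_
  by_contra hne
  have h1 : K.relIndex H ≠ 1 := fun e => hne (relIndex_eq_one.1 e)
  obtain ⟨p, hp, hpd⟩ := Nat.exists_prime_and_dvd h1
  haveI : Fact p.Prime := ⟨hp⟩
  by_cases hp2 : p = 2
  · subst hp2
    refine T.not_dvd_index (hpd.trans ?_)
    rw [← relIndex_mul_index hTH]
    exact dvd_mul_of_dvd_left (relIndex_dvd_of_le_left H le_sup_right) _
  · obtain ⟨S⟩ := (inferInstance : Nonempty (Sylow p ↥H))
    have hS : (S : Subgroup ↥H).map H.subtype ≤ K := by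
      rintro _ ⟨s, hs, rfl⟩
      refine mem_sup_left (Subgroup.subset_closure ⟨s.2, ?_⟩)
      obtain ⟨k, hk⟩ := IsPGroup.iff_orderOf.1 S.isPGroup' ⟨s, hs⟩
      have hk' : orderOf s = p ^ k := (orderOf_coe (⟨s, hs⟩ : ↥(S : Subgroup ↥H))).trans hk
      rw [Subgroup.subtype_apply, orderOf_coe, hk']
      exact (hp.odd_of_ne_two hp2).pow
    refine S.not_dvd_index (hpd.trans ?_)
    exact index_dvd_of_le fun s hs => mem_subgroupOf.2 (hS ⟨s, hs, rfl⟩)

theorem le_normalizer_oddGenerated (H : Subgroup G) : H ≤ normalizer (oddGenerated H : Set G) :=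
  le_normalizer_of_cj fun x hx => by
    rw [cj, map_le_iff_le_comap, oddGenerated, closure_le]
    rintro y ⟨hyH, hy⟩
    refine Subgroup.subset_closure ⟨mul_mem (mul_mem hx hyH) (inv_mem hx), ?_⟩
    show Odd (orderOf (MulAut.conj x y))
    rwa [MulEquiv.orderOf_eq]

theorem cj_iSup_le {M W : Subgroup G} {x : G} (hx : x ∈ M) :
    cj x (⨆ m : ↥M, cj (m : G) W) ≤ ⨆ m : ↥M, cj (m : G) W := by
  rw [cj, Subgroup.map_iSup]
  refine iSup_le fun m => ?_
  refine le_iSup_of_le (ι := ↥M) ⟨x * (m : G), mul_mem hx m.2⟩ ?_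
  exact le_of_eq (cj_cj x (m : G) W)

theorem exists_normal (T : Sylow 2 G) {M₀ H R : Subgroup G} (heven : Cfsg.IsOfEvenCharacteristic G)
    (hTM : (T : Subgroup G) ≤ M₀) (hTH : (T : Subgroup G) ≤ H) (hH1 : pCore 2 ↥H ≠ ⊥)
    (hU : ∃! K : Subgroup ↥H, IsCoatom K ∧ (T : Subgroup G).subgroupOf H ≤ K)
    (hR : R ≠ ⊥) (hRT : R ≤ (T : Subgroup G))
    (hS : CharP.IsSylIn 2 R (oddGenerated H ⊔ R)) (hRM : M₀ ≤ normalizer (R : Set G)) :
    ∃ R₀ : Subgroup G, R₀ ≠ ⊥ ∧ R₀ ≤ R ∧ M₀ ⊔ H ≤ normalizer (R₀ : Set G) := by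
  classical
  set H₀ := oddGenerated H ⊔ R with hH₀
  have hH₀H : H₀ ≤ H := sup_le ((closure_le _).2 fun x hx => hx.1) (hRT.trans hTH)
  have hTR : (T : Subgroup G) ≤ normalizer (R : Set G) := hTM.trans hRM
  have hgen := oddGenerated_sup hTH
  have hHn : H ≤ normalizer (H₀ : Set G) := by
    refine (hgen.symm.le).trans (sup_le ((le_sup_left : oddGenerated H ≤ H₀).trans Subgroup.le_normalizer) ?_)
    refine le_normalizer_of_cj fun t ht => ?_
    rw [cj, hH₀, Subgroup.map_sup]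
    exact le_of_eq (congrArg₂ _ (cj_of_mem (le_normalizer_oddGenerated H (hTH ht))) (cj_of_mem (hTR ht)))
  have hTH₀ : (T : Subgroup G) ⊓ H₀ = R :=
    hS.eq_of_le (T.isPGroup'.to_le inf_le_left) inf_le_right (le_inf hRT le_sup_right)
  -- characteristic two
  have hOne : Cfsg.pCoreOf 2 H ≠ ⊥ := fun e =>
    hH1 ((map_eq_bot_iff_of_injective _ H.subtype_injective).1 e)
  have hHL : H ≤ normalizer (Cfsg.pCoreOf 2 H : Set G) := CharP.le_normalizer_pCoreOf 2 H
  have hLc : CharP.IsCharP 2 (normalizer (Cfsg.pCoreOf 2 H : Set G)) := (CharP.isCharP_iff _).2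
    (heven _ ⟨_, CharP.isPGroup_pCoreOf 2 H, hOne, rfl⟩ ⟨T, hTH.trans hHL⟩)
  have hTsyl : ∀ {X : Subgroup G}, (T : Subgroup G) ≤ X → CharP.IsSylIn 2 (T : Subgroup G) X :=
    fun hX => (CharP.isSylIn_top_iff.2 ⟨T, rfl⟩).mono hX le_top
  have hHc : CharP.IsCharP 2 H := isCharP_of_sylow_le hLc (hTsyl (hTH.trans hHL)) hTH hHL
  have hH₀c : CharP.IsCharP 2 H₀ := CharP.isCharP_of_normal hHc hH₀H hHn
  -- the maximal subgroup
  obtain ⟨K₁, ⟨hK₁, hTK₁⟩, hKu⟩ := hU
  set K := K₁.map H.subtype with hK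
  have hTK : (T : Subgroup G) ≤ K := fun t ht => ⟨⟨t, hTH ht⟩, hTK₁ ht, rfl⟩
  have hKne : ¬ H ≤ K := fun hle => hK₁.1 (top_le_iff.1 fun x _ => by
    obtain ⟨y, hy, e⟩ := hle x.2
    exact H.subtype_injective e ▸ hy)
  have huniq : ∀ Y : Subgroup G, (T : Subgroup G) ≤ Y → Y ≤ H → Y = H ∨ Y ≤ K := by
    intro Y hTY hYH
    rcases eq_top_or_exists_le_coatom (Y.subgroupOf H) with e | ⟨Z, hZ, hle⟩
    · exact Or.inl (le_antisymm hYH (subgroupOf_eq_top.1 e))
    · exact Or.inr fun y hy => ⟨⟨y, hYH hy⟩, hKu Z ⟨hZ, (comap_mono hTY).trans hle⟩ ▸ hle hy, rfl⟩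
  have hH₀K : ¬ H₀ ≤ K := fun hle => hKne
    (hgen.symm.le.trans (sup_le ((le_sup_left : oddGenerated H ≤ H₀).trans hle) hTK))
  -- a minimal subgroup outside it
  obtain ⟨P, ⟨hRP, hPH₀, hPK⟩, hPmin⟩ := Set.exists_min_image
    {P : Subgroup G | R ≤ P ∧ P ≤ H₀ ∧ ¬ P ≤ K} (fun P => Nat.card P) (Set.toFinite _)
    ⟨H₀, le_sup_right, le_rfl, hH₀K⟩
  have hTP : ∀ {X : Subgroup G}, P ≤ X → (T : Subgroup G) ≤ X → H ≤ X := fun {X} hPX hTX => by
    rcases huniq ((T : Subgroup G) ⊔ P) le_sup_left (sup_le hTH (hPH₀.trans hH₀H)) with e | e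
    · exact e.symm.le.trans (sup_le hTX hPX)
    · exact absurd (le_sup_right.trans e) hPK
  by_cases hPR : P ≤ normalizer (R : Set G)
  · exact ⟨R, hR, le_rfl, sup_le hRM (hTP hPR hTR)⟩
  set B := baumannSubgroupOf 2 R with hB
  have hBR : B ≤ R := BlockBasic.baumann_le _
  have hRB : normalizer (R : Set G) ≤ normalizer (B : Set G) := fun g hg => by
    refine mem_normalizer_iff_map_conj_eq.2 ?_
    show B.map (MulAut.conj g).toMonoidHom = B
    rw [hB, BlockBasic.baumann_conj]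
    exact congrArg _ (mem_normalizer_iff_map_conj_eq.1 hg)
  by_cases hchar : ∃ C : Subgroup G, C ≤ B ∧ C ≠ ⊥ ∧ (C.subgroupOf B).Characteristic ∧
      P ≤ normalizer (C : Set G)
  · obtain ⟨C, hCB, hC, hch, hn⟩ := hchar
    have hRC : normalizer (R : Set G) ≤ normalizer (C : Set G) := fun g hg => by
      have e : B.map (MulAut.conj g).toMonoidHom = B := mem_normalizer_iff_map_conj_eq.1 (hRB hg)
      refine mem_normalizer_iff_map_conj_eq.2 (eq_of_le_of_card_ge ?_
        (card_map_of_injective (MulAut.conj g).injective).ge)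
      rintro _ ⟨x, hx, rfl⟩
      let α : ↥B ≃* ↥B := ((MulAut.conj g).subgroupMap B).trans (MulEquiv.subgroupCongr e)
      exact (characteristic_iff_map_le.1 hch α) ⟨⟨x, hCB hx⟩, hx, rfl⟩
    exact ⟨C, hC, hCB.trans hBR, sup_le (hRM.trans hRC) (hTP hn (hTR.trans hRC))⟩
  push Not at hchar
  by_cases hz : P ≤ normalizer (omegaOneCenter 2 R : Set G)
  · refine ⟨omegaOneCenter 2 R, fun e => ?_, BlockModule.omegaCenter_le _,
      sup_le (hRM.trans (BlockModule.le_normalizer_omegaCenter R))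
        (hTP hz (hTR.trans (BlockModule.le_normalizer_omegaCenter R)))⟩
    obtain ⟨z, hz1, hz2, hz3⟩ := CharP.exists_order_prime_central (p := 2) (T.isPGroup'.to_le hRT) le_rfl
      Subgroup.le_normalizer hR
    have : z ∈ omegaOneCenter 2 R :=
      Omega.mem_omegaOne ⟨hz1, hz3⟩ (hz2 ▸ pow_orderOf_eq_one z)
    rw [e, mem_bot] at this
    rw [this, orderOf_one] at hz2
    omega
  have hSP : CharP.IsSylIn 2 R P := hS.mono hRP hPH₀
  obtain ⟨E, W, hEP, hPER, hblk, hcen, -, hab⟩ := exists_seed hSP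
    (isCharP_of_sylow_le hH₀c hS hRP hPH₀) hPR (M := K ⊓ P)
    (lt_of_le_of_ne inf_le_right fun e => hPK (e ▸ inf_le_left))
    (le_inf (hRT.trans hTK) hRP)
    (fun X hRX hXP => le_inf (by
      by_contra hne
      exact hXP.ne (eq_of_le_of_card_ge hXP.le (hPmin X ⟨hRX, hXP.le.trans hPH₀, hne⟩))) hXP.le)
    (fun C hC hC1 hC2 => hchar C hC hC1 hC2) hz
  have hEH : E ≤ H := hEP.trans (hPH₀.trans hH₀H)
  have hBT : B ≤ (T : Subgroup G) := hBR.trans hRT
  -- the normal subgroup `S` of `P` cut out of a normal `2`-subgroup of a local subgroup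
  have hinter : ∀ {L : Subgroup G}, (T : Subgroup G) ≤ L → E ≤ L →
      P ≤ normalizer ((Cfsg.pCoreOf 2 L ⊓ R : Subgroup G) : Set G) := fun {L} hTL hEL => by
    refine hPER.trans (sup_le ?_ ?_)
    · have e : Cfsg.pCoreOf 2 L ⊓ R = Cfsg.pCoreOf 2 L ⊓ H₀ := by
        rw [← hTH₀, ← inf_assoc, inf_eq_left.2 (CharP.pCoreOf_le_of_isSylIn (hTsyl hTL))]
      rw [e]
      exact (le_inf (hEL.trans (CharP.le_normalizer_pCoreOf 2 L))
        ((hEP.trans hPH₀).trans Subgroup.le_normalizer)).trans inf_normalizer_le_normalizer_inf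
    · exact (le_inf ((hRT.trans hTL).trans (CharP.le_normalizer_pCoreOf 2 L)) Subgroup.le_normalizer).trans
        inf_normalizer_le_normalizer_inf
  have hpull : ∀ L : Subgroup G, CharP.IsCharP 2 L → (T : Subgroup G) ≤ L → E ≤ L →
      W ≤ Cfsg.pCoreOf 2 L := by
    intro L hLc hTL hEL
    set Q := Cfsg.pCoreOf 2 L with hQ
    have hQT : Q ≤ (T : Subgroup G) := CharP.pCoreOf_le_of_isSylIn (hTsyl hTL)
    have hQn : L ≤ normalizer (Q : Set G) := CharP.le_normalizer_pCoreOf 2 L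
    have hBL : B ≤ L := hBT.trans hTL
    by_contra hWQ
    have hWC : Q ⊓ W ≤ centralizer (E : Set G) := by
      refine (hblk.irr _ inf_le_right ?_ ?_).resolve_right fun hle => hWQ (hle.trans inf_le_left)
      · exact (le_inf (hEL.trans hQn) hblk.eW).trans inf_normalizer_le_normalizer_inf
      · exact (le_inf (hBL.trans hQn) hblk.bW).trans inf_normalizer_le_normalizer_inf
    have hEQ : E ≤ normalizer ((Q ⊓ E : Subgroup G) : Set G) :=
      (le_inf (hEL.trans hQn) Subgroup.le_normalizer).trans inf_normalizer_le_normalizer_inf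
    -- an element of odd order commutes with what it moves only into a centralised `2`-subgroup
    have hodd : ∀ {e x z : G}, Odd (orderOf e) → e * x * e⁻¹ = x * z → z ∈ Q →
        e * z = z * e → e * x = x * e := by
      intro e x z he hex hzQ hez
      have hpow : ∀ i : ℕ, e ^ i * x * (e ^ i)⁻¹ = x * z ^ i := by
        intro i
        induction i with
        | zero => simp
        | succ i ih =>
          rw [pow_succ' e, show e * e ^ i * x * (e * e ^ i)⁻¹ = e * (e ^ i * x * (e ^ i)⁻¹) * e⁻¹ by group,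
            ih, show e * (x * z ^ i) * e⁻¹ = (e * x * e⁻¹) * (e * z ^ i * e⁻¹) by group, hex,
            ((show Commute e z from hez).pow_right i).eq, mul_inv_cancel_right, pow_succ', mul_assoc]
      have h1 : z ^ orderOf e = 1 := by
        have := hpow (orderOf e)
        rw [pow_orderOf_eq_one, one_mul, inv_one, mul_one] at this
        exact left_eq_mul.1 this
      have h2 : z = 1 := CharP.eq_one_of_mem_pgroup (CharP.isPGroup_pCoreOf 2 L) hzQ
        (Nat.coprime_two_right.2 (he.of_dvd_nat (orderOf_dvd_of_pow_eq_one h1)))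
      rw [h2, mul_one] at hex
      exact mul_inv_eq_iff_eq_mul.1 hex
    have hEB : E ≤ centralizer (((Q ⊓ R) ⊓ B : Subgroup G) : Set G) := by
      refine hblk.gen _ fun e he hodd' x hx => (?_ : x * e = e * x)
      obtain ⟨⟨hxQ, -⟩, hxB⟩ := hx
      have hexQ : e * x * e⁻¹ ∈ Q := (mem_normalizer_iff.1 (hQn (hEL he)) x).1 hxQ
      have hzQE : x⁻¹ * (e * x * e⁻¹) ∈ Q ⊓ E := by
        refine Subgroup.mem_inf.2 ⟨mul_mem (inv_mem hxQ) hexQ, ?_⟩
        rw [show x⁻¹ * (e * x * e⁻¹) = x⁻¹ * e * x⁻¹⁻¹ * e⁻¹ by group]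
        exact mul_mem ((mem_normalizer_iff.1 (hblk.bE (inv_mem hxB)) e).1 he) (inv_mem he)
      have hzW := hblk.core (Q ⊓ E) inf_le_right ((CharP.isPGroup_pCoreOf 2 L).to_le inf_le_left) hEQ hzQE
      have hzc := hWC (Subgroup.mem_inf.2 ⟨hzQE.1, hzW⟩)
      exact (hodd hodd' (mul_inv_cancel_left x _).symm hzQE.1 (hzc e he)).symm
    have hER := hab _ ((inf_le_right : Q ⊓ R ≤ R).trans hRP)
      ((CharP.isPGroup_pCoreOf 2 L).to_le inf_le_left) (hinter hTL hEL) hEB
    have hEQc : E ≤ centralizer (Q : Set G) := by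
      refine hblk.gen _ fun e he hodd' x hx => (?_ : x * e = e * x)
      have hz : x⁻¹ * (e * x * e⁻¹) ∈ Q ⊓ R := by
        refine Subgroup.mem_inf.2 ⟨mul_mem (inv_mem hx) ((mem_normalizer_iff.1 (hQn (hEL he)) x).1 hx), ?_⟩
        rw [← hTH₀]
        refine Subgroup.mem_inf.2 ⟨hQT (mul_mem (inv_mem hx) ((mem_normalizer_iff.1 (hQn (hEL he)) x).1 hx)), ?_⟩
        rw [show x⁻¹ * (e * x * e⁻¹) = x⁻¹ * e * x⁻¹⁻¹ * e⁻¹ by group]
        exact mul_mem ((mem_normalizer_iff.1 (hHn (hTH (inv_mem (hQT hx)))) e).1 (hPH₀ (hEP he)))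
          (inv_mem (hPH₀ (hEP he)))
      have hez : e * (x⁻¹ * (e * x * e⁻¹)) = x⁻¹ * (e * x * e⁻¹) * e := (hER he _ hz).symm
      exact (hodd hodd' (mul_inv_cancel_left x _).symm hz.1 hez).symm
    have hE1 : E = ⊥ := le_bot_iff.1 (hblk.gen _ fun e he hodd' => mem_bot.2
      (CharP.eq_one_of_mem_pgroup (CharP.isPGroup_pCoreOf 2 L) (hLc ⟨hEL he, hEQc he⟩)
        (Nat.coprime_two_right.2 hodd')))
    refine hblk.ymove ?_
    rw [hE1]
    intro x _ y hy
    rw [SetLike.mem_coe, mem_bot] at hy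
    rw [hy, one_mul, mul_one]
  have hTW : ∀ t ∈ (T : Subgroup G), cj t W ≤ centralizer (W : Set G) := by
    intro t ht
    set S := Cfsg.pCoreOf 2 H ⊓ R with hSdef
    have hWS : W ≤ S := le_inf (hpull H hHc hTH hEH) (hblk.wB.trans hBR)
    have hcS := hcen S ((inf_le_right : S ≤ R).trans hRP) ((CharP.isPGroup_pCoreOf 2 H).to_le inf_le_left)
      (hinter hTH hEH)
    refine le_trans ((cj_mono t hWS).trans (le_of_eq ?_)) hcS
    exact cj_of_mem (inf_normalizer_le_normalizer_inf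
      (Subgroup.mem_inf.2 ⟨CharP.le_normalizer_pCoreOf 2 H (hTH ht), hTR ht⟩))
  have hall := exists_common T heven hTM hBT (hRM.trans hRB) hblk hpull hTW
  refine ⟨⨆ m : ↥M₀, cj (m : G) W, fun e => ?_, iSup_le fun m => ?_, sup_le ?_ ?_⟩
  · have : W ≤ ⊥ := e ▸ le_iSup_of_le (1 : ↥M₀) (cj_one W).ge
    refine hblk.ymove ?_
    rw [le_bot_iff.1 this, commutator_bot_left]
    exact bot_le
  · exact (cj_mono _ (hblk.wB.trans hBR)).trans (cj_of_mem (hRM m.2)).le
  · exact le_normalizer_of_cj fun x hx => cj_iSup_le (hx)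
  · refine hTP ?_ ?_
    swap
    · exact le_normalizer_of_cj fun x hx => cj_iSup_le (hTM hx)
    set R₀ := ⨆ m : ↥M₀, cj (m : G) W with hR₀
    have hR₀B : R₀ ≤ B := iSup_le fun m => (cj_mono _ hblk.wB).trans (cj_of_mem (hRB (hRM m.2))).le
    have hR₀W : R₀ ≤ centralizer (W : Set G) := iSup_le fun m => hall m m.2
    have hWR₀ : W ≤ R₀ := le_iSup_of_le (1 : ↥M₀) (cj_one W).ge
    refine hPER.trans (sup_le (le_normalizer_of_cj fun e he => ?_) ?_)
    · rintro _ ⟨x, hx, rfl⟩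
      obtain ⟨w, hw, hew⟩ := hblk.conj_eq (hR₀B hx) (hR₀W hx) he
      show e * x * e⁻¹ ∈ R₀
      rw [hew]
      exact mul_mem (hWR₀ hw) hx
    · exact le_normalizer_of_cj fun x hx => cj_iSup_le (hTM (hRT hx))

end Cfsg.Agent.PLocal.CommonNormal
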