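import Cfsg.Agent.Lib.PLocal.CommonNormal.Seed
import Mathlib.GroupTheory.SemidirectProduct

/-!
Pushing up a Sylow `2`-subgroup in a unique maximal subgroup together with automorphisms of odd order.
-/

set_option autoImplicit false
set_option linter.unusedSectionVars false
set_option linter.style.longLine false
set_option linter.style.haveILetI false

namespace Cfsg.Agent.PLocal.CommonNormal

open Cfsg Subgroup
open scoped commutatorElement

variable {G : Type*} [Group G] [Finite G]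

/-- An automorphism of `S` carries the Baumann subgroup of `S` to itself. -/
theorem apply_mem_baumann {S : Subgroup G} (a : MulAut ↥S) {x : ↥S}
    (hx : (x : G) ∈ baumannSubgroupOf 2 S) : ((a x : ↥S) : G) ∈ baumannSubgroupOf 2 S := by
  have h0 : (⊤ : Subgroup ↥S).map S.subtype = S := by rw [← MonoidHom.range_eq_map, range_subtype]
  have h1 : (⊤ : Subgroup ↥S).map (S.subtype.comp a.toMonoidHom) = S := by
    rw [← Subgroup.map_map, show (⊤ : Subgroup ↥S).map a.toMonoidHom = ⊤ from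
      map_top_of_surjective _ a.surjective, h0]
  have hB1 := map_baumann (φ := S.subtype) S.subtype_injective ⊤
  have hB2 := map_baumann (φ := S.subtype.comp a.toMonoidHom) (S.subtype_injective.comp a.injective) ⊤
  rw [h0] at hB1
  rw [h1] at hB2
  rw [← hB1] at hx
  exact hB2.le ⟨x, (mem_map_iff_mem S.subtype_injective).1 hx, rfl⟩

theorem apply_mem_omegaOneCenter {S : Subgroup G} (a : MulAut ↥S) {x : ↥S}
    (hx : (x : G) ∈ omegaOneCenter 2 S) : ((a x : ↥S) : G) ∈ omegaOneCenter 2 S := by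
  rw [CharP.PushingUpMCL.mem_omegaOneCenter] at hx ⊢
  refine ⟨(a x).2, fun y hy => ?_, ?_⟩
  · obtain ⟨z, hz⟩ := a.surjective ⟨y, hy⟩
    have h1 : z * x = x * z := Subtype.ext (hx.2.1 (z : G) z.2)
    have h2 := congrArg a h1
    rw [map_mul, map_mul, hz] at h2
    exact congrArg Subtype.val h2
  · have h1 : x ^ 2 = 1 := Subtype.ext hx.2.2
    have h2 := congrArg a h1
    rw [map_pow, map_one] at h2
    exact congrArg Subtype.val h2

theorem inl_conj {N K : Type*} [Group N] [Group K] {φ : K →* MulAut N} (g : N ⋊[φ] K) (x : N) :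
    g * SemidirectProduct.inl x * g⁻¹ = SemidirectProduct.inl (g.left * φ g.right x * g.left⁻¹) := by
  refine SemidirectProduct.ext ?_ ?_ <;> simp [mul_assoc]

theorem exists_normal_invariant_aux (hunique : ∀ S : Sylow 2 G, ∃! M : Subgroup G, IsCoatom M ∧ (S : Subgroup G) ≤ M)
    (hchar : centralizer (pCore 2 G : Set G) ≤ pCore 2 G) (S₁ : Subgroup G) (hS : ∃ S : Sylow 2 G, (S : Subgroup G) = S₁)
    (A : Subgroup (MulAut ↥S₁)) (hA : Odd (Nat.card A)) :
    ∃ U : Subgroup G, U ≠ ⊥ ∧ U.Normal ∧ U ≤ S₁ ∧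
      ∀ a ∈ A, ∀ x : ↥S₁, (x : G) ∈ U → ((a x : ↥S₁) : G) ∈ U := by
  classical
  obtain ⟨S, hS⟩ := hS
  have hS2 : IsPGroup 2 ↥S₁ := hS ▸ S.isPGroup'
  obtain ⟨M, ⟨hM, hSM⟩, hMu⟩ := hunique S
  rw [hS] at hSM hMu
  have hSne : S₁ ≠ ⊥ := fun e => by
    have h1 : pCore 2 G = ⊥ :=
      le_bot_iff.1 (e ▸ hS ▸ (CharP.isPGroup_pCore 2 G).le_sylow_of_normal S)
    refine hM.1 (eq_top_iff.2 fun x _ => ?_)
    have hx : x ∈ pCore 2 G := hchar (fun y hy => by
      rw [h1, SetLike.mem_coe, mem_bot] at hy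
      rw [hy, one_mul, mul_one])
    rw [h1, mem_bot] at hx
    exact hx ▸ one_mem M
  by_cases hSn : S₁.Normal
  · exact ⟨S₁, hSne, hSn, le_rfl, fun a _ x _ => (a x).2⟩
  set B := baumannSubgroupOf 2 S₁ with hB
  have hBS : B ≤ S₁ := BlockBasic.baumann_le _
  by_cases hchC : ∃ C : Subgroup G, C ≤ B ∧ C ≠ ⊥ ∧ (C.subgroupOf B).Characteristic ∧ C.Normal
  · obtain ⟨C, hCB, hC, hch, hn⟩ := hchC
    refine ⟨C, hC, hn, hCB.trans hBS, fun a _ x hx => ?_⟩
    let α : ↥B ≃* ↥B :=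
      { toFun := fun b => ⟨_, apply_mem_baumann a (x := ⟨b, hBS b.2⟩) b.2⟩
        invFun := fun b => ⟨_, apply_mem_baumann a.symm (x := ⟨b, hBS b.2⟩) b.2⟩
        left_inv := fun b => Subtype.ext
          (congrArg Subtype.val (a.symm_apply_apply ⟨(b : G), hBS b.2⟩) :)
        right_inv := fun b => Subtype.ext
          (congrArg Subtype.val (a.apply_symm_apply ⟨(b : G), hBS b.2⟩) :)
        map_mul' := fun b d => Subtype.ext (congrArg Subtype.val
          (map_mul a ⟨(b : G), hBS b.2⟩ ⟨(d : G), hBS d.2⟩) :) }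
    exact (characteristic_iff_map_le.1 hch α) ⟨⟨x, hCB hx⟩, hx, rfl⟩
  push Not at hchC
  by_cases hz : (omegaOneCenter 2 S₁).Normal
  · refine ⟨omegaOneCenter 2 S₁, fun e => ?_, hz, BlockModule.omegaCenter_le _,
      fun a _ x hx => apply_mem_omegaOneCenter a hx⟩
    obtain ⟨z, hz1, hz2, hz3⟩ := CharP.exists_order_prime_central (p := 2) hS2 le_rfl
      Subgroup.le_normalizer hSne
    have : z ∈ omegaOneCenter 2 S₁ := Omega.mem_omegaOne ⟨hz1, hz3⟩ (hz2 ▸ pow_orderOf_eq_one z)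
    rw [e, mem_bot] at this
    rw [this, orderOf_one] at hz2
    omega
  have htop : ∀ C : Subgroup G, (⊤ : Subgroup G) ≤ normalizer (C : Set G) → C.Normal := fun C h =>
    normalizer_eq_top_iff.1 (top_le_iff.1 h)
  obtain ⟨E, W, -, hES, hblk, hcen, hWQ, -⟩ := exists_seed (G := G) (P := ⊤) (R := S₁) (M := M)
    (CharP.isSylIn_top_iff.2 ⟨S, hS⟩) (CharP.isCharP_of_isSubnormal hchar Subgroup.IsSubnormal.top)
    (fun h => hSn (htop _ h)) hM.lt_top hSM
    (fun X hSX hX => by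
      obtain ⟨Y, hY, hle⟩ := (eq_top_or_exists_le_coatom X).resolve_left hX.ne
      exact hMu Y ⟨hY, hSX.trans hle⟩ ▸ hle)
    (fun C hC hC1 hC2 h => hchC C hC hC1 hC2 (htop _ h)) (fun h => hz (htop _ h))
  rw [CharP.pCoreOf_top] at hWQ
  have hWS : W ≤ S₁ := hblk.wB.trans hBS
  have hcQ := hcen (pCore 2 G) le_top (CharP.isPGroup_pCore 2 G) le_normalizer_of_normal
  -- the semidirect product by the automorphisms
  let Γ := ↥S₁ ⋊[A.subtype] ↥A
  haveI : Finite Γ := Finite.of_injective (fun g : Γ => (g.left, g.right)) fun g k e =>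
    SemidirectProduct.ext (congrArg Prod.fst e) (congrArg Prod.snd e)
  let ι : ↥S₁ →* Γ := SemidirectProduct.inl
  have hι : Function.Injective ι := SemidirectProduct.inl_injective
  have hconj : ∀ (g : Γ) (x : ↥S₁), g * ι x * g⁻¹ = ι (g.left * ((g.right : MulAut ↥S₁) x) * g.left⁻¹) :=
    fun g x => inl_conj g x
  set B₁ := (B.subgroupOf S₁).map ι with hB₁
  set W₁ := (W.subgroupOf S₁).map ι with hW₁
  have hnode : Node B₁ W₁ (((centralizer (E : Set G)).subgroupOf S₁).map ι) :=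
    (hblk.node.subgroupOf hBS).map hι
  have hBn : ∀ g : Γ, g ∈ normalizer (B₁ : Set Γ) := fun g => by
    refine le_normalizer_of_cj (X := (⊤ : Subgroup Γ)) (fun g _ => ?_) (mem_top g)
    rintro _ ⟨_, ⟨x, hx, rfl⟩, rfl⟩
    exact ⟨_, apply_mem_baumann (MulAut.conj g.left) (apply_mem_baumann (g.right : MulAut ↥S₁) hx),
      (hconj g x).symm⟩
  haveI : ι.range.Normal := by
    show (SemidirectProduct.inl : ↥S₁ →* Γ).range.Normal
    rw [SemidirectProduct.range_inl_eq_ker_rightHom]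
    infer_instance
  have hodd : Odd ι.range.index := by
    show Odd (SemidirectProduct.inl : ↥S₁ →* Γ).range.index
    rw [SemidirectProduct.range_inl_eq_ker_rightHom, index_ker,
      MonoidHom.range_eq_top.2 SemidirectProduct.rightHom_surjective, card_top]
    exact hA
  have hall := hnode.commute_of_odd_index hodd hBn (by
    rintro _ ⟨s, rfl⟩
    rintro _ ⟨_, ⟨x, hx, rfl⟩, rfl⟩ _ ⟨y, hy, rfl⟩
    show ι y * (ι s * ι x * (ι s)⁻¹) = (ι s * ι x * (ι s)⁻¹) * ι y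
    rw [← map_inv, ← map_mul, ← map_mul, ← map_mul, ← map_mul]
    refine congrArg ι (Subtype.ext ?_)
    exact hcQ (Subgroup.Normal.conj_mem inferInstance (x : G) (hWQ hx) (s : G)) (y : G) hy)
  set Z := ⨆ g : Γ, cj g W₁ with hZ
  have hZB : Z ≤ B₁ := iSup_le fun g => (cj_mono g hnode.wB).trans (cj_of_mem (hBn g)).le
  have hZW : Z ≤ centralizer (W₁ : Set Γ) := iSup_le hall
  have hZn : ∀ g : Γ, g ∈ normalizer (Z : Set Γ) := fun g => by
    refine le_normalizer_of_cj (X := (⊤ : Subgroup Γ)) (fun g _ => ?_) (mem_top g)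
    rw [cj, hZ, Subgroup.map_iSup]
    exact iSup_le fun k => le_iSup_of_le (g * k) (cj_cj g k W₁).le
  set U := (Z.comap ι).map S₁.subtype with hU
  have hUinv : ∀ (g : Γ) (x : ↥S₁), (x : G) ∈ U →
      ((g.left * ((g.right : MulAut ↥S₁) x) * g.left⁻¹ : ↥S₁) : G) ∈ U := by
    intro g x hx
    have hx' : ι x ∈ Z := (mem_map_iff_mem S₁.subtype_injective).1 hx
    refine ⟨g.left * ((g.right : MulAut ↥S₁) x) * g.left⁻¹, ?_, rfl⟩
    show ι _ ∈ Z
    rw [← hconj]
    exact (mem_normalizer_iff.1 (hZn g) _).1 hx'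
  have hUB : ∀ x ∈ U, x ∈ B ∧ x ∈ centralizer (W : Set G) := by
    rintro _ ⟨x, hx, rfl⟩
    refine ⟨(mem_map_iff_mem hι).1 (hZB hx), fun w hw => ?_⟩
    have h2 : (⟨w, hWS hw⟩ : ↥S₁) * x = x * ⟨w, hWS hw⟩ := hι (by
      rw [map_mul, map_mul]
      exact hZW hx (ι ⟨w, hWS hw⟩) ⟨⟨w, hWS hw⟩, hw, rfl⟩)
    exact congrArg Subtype.val h2
  have hWU : W ≤ U := fun w hw => ⟨⟨w, hWS hw⟩,
    (le_iSup (fun g : Γ => cj g W₁) 1) ((cj_one W₁).ge ⟨⟨w, hWS hw⟩, hw, rfl⟩), rfl⟩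
  refine ⟨U, fun e => hblk.ymove ?_, htop _ (hES.trans (sup_le ?_ ?_)), map_subtype_le _, fun a ha x hx => ?_⟩
  · rw [le_bot_iff.1 (e ▸ hWU : W ≤ ⊥), commutator_bot_left]
    exact bot_le
  · refine le_normalizer_of_cj fun e he => ?_
    rintro _ ⟨x, hx, rfl⟩
    obtain ⟨w, hw, hew⟩ := hblk.conj_eq (hUB x hx).1 (hUB x hx).2 he
    show e * x * e⁻¹ ∈ U
    rw [hew]
    exact mul_mem (hWU hw) hx
  · refine le_normalizer_of_cj fun s hs => ?_
    rintro _ ⟨_, ⟨y, hy, rfl⟩, rfl⟩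
    exact hUinv (ι ⟨s, hs⟩) y ⟨y, hy, rfl⟩
  · have h1 : ((1 * a x * 1⁻¹ : ↥S₁) : G) ∈ U := hUinv (SemidirectProduct.inr ⟨a, ha⟩) x hx
    simpa using h1

theorem exists_normal_invariant (hunique : ∀ S : Sylow 2 G, ∃! M : Subgroup G, IsCoatom M ∧ (S : Subgroup G) ≤ M)
    (hchar : centralizer (pCore 2 G : Set G) ≤ pCore 2 G) (S : Sylow 2 G)
    (A : Subgroup (MulAut ↥(S : Subgroup G))) (hA : Odd (Nat.card A)) :
    ∃ U : Subgroup G, U ≠ ⊥ ∧ U.Normal ∧ U ≤ (S : Subgroup G) ∧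
      ∀ a ∈ A, ∀ x : ↥(S : Subgroup G), (x : G) ∈ U → ((a x : ↥(S : Subgroup G)) : G) ∈ U :=
  exists_normal_invariant_aux hunique hchar _ ⟨S, rfl⟩ A hA

end Cfsg.Agent.PLocal.CommonNormal
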