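import Cfsg.Agent.Lib.PLocal.CommonNormal.Defs
import Cfsg.Agent.Lib.PLocal.PushUp.TwoPiece

/-!
A minimal subgroup over one block in the pushing-up situation, for `p = 2`, gives a natural block.
-/

set_option autoImplicit false
set_option linter.unusedSectionVars false
set_option linter.style.longLine false
set_option linter.style.haveILetI false

namespace Cfsg.Agent.PLocal.PushUp

open Cfsg Subgroup
open Cfsg.Lib.Offender Cfsg.Agent.FFNatural Cfsg.Agent.PLocal.ThompsonSubgroup
open Cfsg.Agent.Classical.GL2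
open Cfsg.Agent.CharP.PushOne (exists_mul le_nz)
open Cfsg.Agent.CharP (resOf)
open Cfsg.Agent.PLocal.CommonNormal (BBlock)
open scoped commutatorElement MatrixGroups

variable {G : Type*} [Group G] {P U : Type*} [Group P] [AddCommGroup U] [Module (ZMod 2) U]
variable {T : Sylow 2 G} {M : Subgroup G} {Tb : Sylow 2 P} {Mb : Subgroup P}
  {f : Representation (ZMod 2) P U} {π : G →* P} {j : U → G} {q : ℕ}
variable [Finite G] [Fact (Nat.Prime 2)] [Finite P] [Finite U]

namespace Piece

variable {D : Subgroup P} {X : Subgroup G} {K : Type} [Field K] [Fintype K] {n : ℕ}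
  {φ : ↥X →* PSL(2, K)} {ρ : ↥X →* SL(2, K)}
variable (c : Piece T Tb f π j q D X K n φ ρ) (h : Ctx T M Tb Mb f π j q)
include c h

local notation "BB" => baumannSubgroupOf 2 (T : Subgroup G)
local notation "LL" => FFNatural.blockOf f q (Tb : Subgroup P) D

theorem dist_eq_one : c.sit.host.dist = 1 := by
  have h1 := c.sit.host.dist_le_two
  have h2 := c.sit.host.one_le_dist
  by_contra hne
  have := c.two_three h (by omega)
  omega

theorem mem_core_of_trivial {z : ↥X} (hz : ∀ v, f (π z) v - v ∈ fixed f LL) : z ∈ pCore 2 ↥X := by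
  obtain ⟨σ, hσ, hσmove, -⟩ := c.loc.exists_hom h
  obtain ⟨K', iK, iKt, hK, ρ', ψ, -, -, -, -, -⟩ := (c.loc.natural h).sl2
  have huniq : ∀ w : ↥X, (∀ v, f (π w) v - v ∈ fixed f LL) → σ w = 1 := fun w hw => by
    obtain ⟨l, -, hu⟩ := c.loc.exists_unique_block h w.2
    exact (hu (σ w) (hσmove w)).trans (hu 1 fun v => by
      rw [OneMemClass.coe_one, inv_one, one_mul]; exact hw v).symm
  have hle : pCore 2 ↥X ≤ σ.ker := fun w hw => huniq w (c.core_act h ⟨w, hw, rfl⟩).1
  have he : pCore 2 ↥X = σ.ker := by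
    refine eq_of_le_of_card_ge hle (le_of_eq ?_)
    have h1 := σ.ker.card_mul_index
    have h2 := (pCore 2 ↥X).card_mul_index
    have h3 : σ.ker.index = (pCore 2 ↥X).index := by
      rw [index_ker, ← c.kerρ, index_ker, MonoidHom.range_eq_top.2 hσ, MonoidHom.range_eq_top.2 c.lift.2.1,
        card_top, card_top, Nat.card_congr ρ'.toEquiv, natCard_SL_two, natCard_SL_two, c.card, hK]
    rw [h3] at h1
    exact Nat.eq_of_mul_eq_mul_right (Nat.pos_of_ne_zero FiniteIndex.index_ne_zero) (h1.trans h2.symm)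
  rw [he]
  exact huniq z hz

theorem map_res_le : (resOf 2 X).map π ≤ LL := (c.map_res h).le.trans (CharP.resOf_le 2 _)

/-- The block is generated by its residual and the offender. -/
theorem block_le : LL ≤ (resOf 2 X).map π ⊔ D := by
  intro g hg
  obtain ⟨z, hz, rfl⟩ := c.loc.cover hg
  have hz' : z ∈ BB ⊔ resOf 2 X := by rw [sup_comm, c.res_sup_baumann h]; exact hz
  obtain ⟨s, hs, e, he, rfl⟩ := exists_mul (c.loc.base.trans (c.res_norm h)) hz'
  have hsL : π s ∈ LL := by
    have := mul_mem hg (inv_mem (c.map_res_le h ⟨e, he, rfl⟩))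
    rwa [map_mul, mul_inv_cancel_right] at this
  rw [map_mul]
  exact mul_mem (mem_sup_right (h.baumann_inf_block hs c.loc.gen c.loc.le hsL)) (mem_sup_left ⟨e, he, rfl⟩)

/-- A subgroup of the module normalised by `X` is central in the block or covers the module modulo
the fixed points. -/
theorem cover_or {S : Subgroup G} (hS : S ≤ vOf 2 G) (hn : X ≤ normalizer (S : Set G)) :
    S ≤ centralizer (resOf 2 X : Set G) ∨ ∀ v, ∃ u, j u ∈ S ∧ v - u ∈ fixed f LL := by
  obtain ⟨K', iK, iKt, hK, ρ', ψ, hs, hk, hψ, -, -⟩ := (c.loc.natural h).sl2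
  let H₀ : AddSubgroup U :=
    { carrier := {u | j u ∈ S}
      zero_mem' := by rw [Set.mem_ofPred_eq, h.j_zero]; exact one_mem _
      add_mem' := fun {a b} ha hb => by rw [Set.mem_ofPred_eq, h.add]; exact mul_mem ha hb
      neg_mem' := fun {a} ha => by rw [Set.mem_ofPred_eq, h.j_neg]; exact inv_mem ha }
  let H : AddSubgroup (Fin 2 → K') := H₀.map ψ
  by_cases hz : ∀ u, j u ∈ S → u ∈ fixed f LL
  · refine Or.inl fun s hs' => ?_
    obtain ⟨u, rfl⟩ := h.onto s (hS hs')
    exact (c.fixed_iff_centralizes h).1 (hz u hs')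
  · push Not at hz
    obtain ⟨u₀, hu₀, hu₀n⟩ := hz
    have htop : H = ⊤ := by
      refine CharP.PushOne.eq_top_of_invariant H ?_ (v := ψ u₀) ⟨u₀, hu₀, rfl⟩ fun e => hu₀n ((hk _).1 e)
      rintro A _ ⟨u, hu, rfl⟩
      obtain ⟨l, rfl⟩ := ρ'.surjective A
      refine ⟨f (l : P) u, ?_, hψ l u⟩
      obtain ⟨x, hx, hxl⟩ := c.loc.cover l.2
      show j (f (l : P) u) ∈ S
      rw [← hxl, h.conj]
      exact (mem_normalizer_iff.1 (hn hx) _).1 hu
    refine Or.inr fun v => ?_
    obtain ⟨u, hu, e⟩ := htop.ge (AddSubgroup.mem_top (ψ v))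
    exact ⟨u, hu, (hk _).1 (by rw [map_sub, e, sub_self])⟩

theorem w_cover (v : U) : ∃ u, j u ∈ wOf 2 X ∧ v - u ∈ fixed f LL := by
  refine (c.cover_or h (c.w_le_v h) (c.w_norm h)).resolve_left (fun e => c.w_ne h ?_) v
  rw [← c.w_eq h, commutator_eq_bot_iff_le_centralizer]
  exact e

theorem w_commSpace {u : U} (hu : j u ∈ wOf 2 X) : u ∈ commSpace f LL := by
  have hle : wOf 2 X ≤ h.jSub (commSpace f LL) := by
    refine commutator_le.2 fun v hv e he => ?_
    obtain ⟨w, rfl⟩ := h.onto v hv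
    rw [← commutatorElement_inv, h.j_comm]
    exact inv_mem ⟨_, mem_commSpace (c.map_res_le h ⟨e, he, rfl⟩) w, rfl⟩
  exact (h.mem_jSub _ u).1 (hle hu)

/-- On the module of the residual, the Baumann subgroup acts as the offender. -/
theorem exists_split {b : G} (hb : b ∈ BB) : ∃ d ∈ D,
    (∀ v, f (d⁻¹ * π b) v - v ∈ fixed f LL) ∧ (∀ l ∈ LL, d⁻¹ * π b * l = l * (d⁻¹ * π b)) ∧
    ∀ u, j u ∈ wOf 2 X → f (π b) u = f d u := by
  obtain ⟨d, hd, hmove, hcomm⟩ := h.baumann_split hb c.loc.gen c.loc.le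
  refine ⟨d, hd, hmove, hcomm, fun u hu => ?_⟩
  have hfix : f (d⁻¹ * π b) u = u := by
    have hu' := c.w_commSpace h hu
    clear hu
    induction hu' using Submodule.span_induction with
    | mem x hx =>
      obtain ⟨g, hg, v, rfl⟩ := hx
      have h1 := hmove v g hg
      rw [map_sub, ← mul_app, hcomm g hg, mul_app]
      rw [map_sub] at h1
      exact sub_eq_sub_iff_sub_eq_sub.2 h1
    | zero => exact map_zero _
    | add x y _ _ hx hy => rw [map_add, hx, hy]
    | smul a x _ hx => rw [map_smul, hx]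
  conv_rhs => rw [← hfix, ← mul_app, mul_inv_cancel_left]

/-- The offender acts faithfully on the module of the residual modulo the fixed points. -/
theorem offender_free {d : P} (hd : d ∈ D) (hu : ∀ u, j u ∈ wOf 2 X → f d u - u ∈ fixed f LL) : d = 1 := by
  have hn := c.loc.natural h
  by_contra hd1
  obtain ⟨K', iK, iKt, hK, ρ', ψ, hs, hk, hψ, hA, hX⟩ := hn.sl2
  obtain ⟨v, hv⟩ := hs ![0, 1]
  obtain ⟨u, huW, hvu⟩ := c.w_cover h v
  have h1 := (hX u).1 (hn.free hd hd1 (hu u huW))
  have h2 : ψ u = ψ v := ((sub_eq_zero.1 (by rw [← map_sub]; exact (hk _).2 hvu)) : ψ v = ψ u).symm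
  rw [h2, hv] at h1
  simp at h1

theorem exists_lift_mem {d : P} (hd : d ∈ D) : ∃ b ∈ BB, π b = d := by
  obtain ⟨A, hA, hAT, hAD⟩ := h.exists_lift c.loc.gen c.loc.le
  obtain ⟨a, ha, e⟩ := hAD.ge hd
  exact ⟨a, h.max_le_baumann hA hAT ha, e⟩

theorem j_mem_centralizer {u : U} (hu : j u ∈ wOf 2 X) :
    j u ∈ centralizer ((BB : Subgroup G) : Set G) ↔ u ∈ fixed f D := by
  constructor
  · intro hc d hd
    obtain ⟨b, hb, rfl⟩ := c.exists_lift_mem h hd
    refine h.inj ?_
    rw [h.conj, hc b hb, mul_inv_cancel_right]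
  · intro hf b hb
    obtain ⟨d, hd, -, -, hact⟩ := c.exists_split h hb
    have e := h.conj b u
    rw [hact u hu, hf d hd] at e
    exact (eq_mul_inv_iff_mul_eq.1 e).symm

theorem comm_mem_centralizer {b : G} {d : P} {u : U} (hact : f (π b) u = f d u) :
    ⁅j u, b⁆ ∈ centralizer (resOf 2 X : Set G) ↔ f d u - u ∈ fixed f LL := by
  rw [← commutatorElement_inv, h.j_comm, hact, Subgroup.inv_mem_iff]
  exact (c.fixed_iff_centralizes h).symm

theorem fixes_of_mem_centralizer {b : G} {d : P} (hb : b ∈ centralizer (wOf 2 X : Set G))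
    (hact : ∀ u, j u ∈ wOf 2 X → f (π b) u = f d u) {u : U} (hu : j u ∈ wOf 2 X) : f d u - u = 0 := by
  rw [← hact u hu, sub_eq_zero]
  refine h.inj ?_
  rw [h.conj, ← hb _ hu, mul_inv_cancel_right]

theorem centralizes_of_fixes {b : G} {d : P} (hact : ∀ u, j u ∈ wOf 2 X → f (π b) u = f d u)
    (hd : d = 1) : b ∈ centralizer (wOf 2 X : Set G) := fun w hw => by
  obtain ⟨u, rfl⟩ := h.onto w (c.w_le_v h hw)
  have e := h.conj b u
  rw [hact u hw, hd, map_one, Module.End.one_apply] at e
  exact eq_mul_inv_iff_mul_eq.1 e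

theorem idx_left : (centralizer ((BB : Subgroup G) : Set G)).relIndex (wOf 2 X) = q := by
  obtain ⟨K', iK, iKt, hK, ρ', ψ, hs, hk, hψ, hA, hX⟩ := (c.loc.natural h).sl2
  choose up hup using fun w : ↥(wOf 2 X) => h.onto (w : G) (c.w_le_v h w.2)
  let χ : ↥(wOf 2 X) →* Multiplicative K' :=
    { toFun := fun w => Multiplicative.ofAdd (ψ (up w) 1)
      map_one' := by
        have e : up 1 = 0 := h.inj (by rw [hup, h.j_zero]; rfl)
        rw [e, map_zero]; rfl
      map_mul' := fun a b => by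
        have e : up (a * b) = up a + up b := h.inj (by rw [hup, h.add, hup, hup]; rfl)
        rw [e, map_add]; rfl }
  have hker : (centralizer ((BB : Subgroup G) : Set G)).subgroupOf (wOf 2 X) = χ.ker := by
    ext w
    have hw : j (up w) ∈ wOf 2 X := (hup w).symm ▸ w.2
    rw [Subgroup.mem_subgroupOf, ← hup w, c.j_mem_centralizer h hw, hX]
    exact Iff.rfl
  have hsurj : Function.Surjective χ := fun a => by
    obtain ⟨v, hv⟩ := hs ![0, a.toAdd]
    obtain ⟨u, huW, hvu⟩ := c.w_cover h v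
    refine ⟨⟨j u, huW⟩, Multiplicative.toAdd.injective ?_⟩
    have e : up ⟨j u, huW⟩ = u := h.inj (hup _)
    show ψ (up ⟨j u, huW⟩) 1 = _
    have h2 : ψ v = ψ u := sub_eq_zero.1 (by rw [← map_sub]; exact (hk _).2 hvu)
    rw [e, ← h2, hv]
    rfl
  rw [relIndex, hker, index_ker, MonoidHom.range_eq_top.2 hsurj, card_top,
    Nat.card_congr Multiplicative.toAdd, Nat.card_eq_fintype_card, hK]

theorem idx_right : (centralizer (wOf 2 X : Set G)).relIndex BB = q := by
  choose sp hspD hspm hspc hspa using fun b : ↥(BB : Subgroup G) => c.exists_split h b.2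
  have huniq : ∀ {d e : P}, d ∈ D → e ∈ D → (∀ u, j u ∈ wOf 2 X → f d u = f e u) → d = e := by
    intro d e hd he hde
    refine (inv_mul_eq_one.1 (c.offender_free h (mul_mem (inv_mem he) hd) fun u hu => ?_)).symm
    rw [mul_app, hde u hu, inv_app, sub_self]
    exact zero_mem _
  let χ : ↥(BB : Subgroup G) →* ↥D := MonoidHom.mk' (fun b => ⟨sp b, hspD b⟩) fun a b => Subtype.ext
    (huniq (hspD _) (mul_mem (hspD a) (hspD b)) fun u hu => by
      have h1 := hspa (a * b) u hu
      rw [Subgroup.coe_mul, map_mul, mul_app] at h1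
      have hw : j (f (π (b : G)) u) ∈ wOf 2 X := by
        rw [h.conj]
        exact (mem_normalizer_iff.1 (c.w_norm h (c.loc.base b.2)) _).1 hu
      rw [hspa a _ hw] at h1
      rw [← h1, hspa b u hu, Subgroup.coe_mul, mul_app])
  have hker : (centralizer (wOf 2 X : Set G)).subgroupOf BB = χ.ker := by
    ext b
    rw [Subgroup.mem_subgroupOf, MonoidHom.mem_ker]
    constructor
    · intro hb
      exact Subtype.ext (c.offender_free h (hspD b) fun u hu => by
        show f (sp b) u - u ∈ _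
        rw [c.fixes_of_mem_centralizer h hb (hspa b) hu]; exact zero_mem _)
    · intro e
      exact c.centralizes_of_fixes h (hspa b) (congrArg Subtype.val e)
  have hsurj : Function.Surjective χ := fun d => by
    obtain ⟨b, hb, e⟩ := c.exists_lift_mem h d.2
    refine ⟨⟨b, hb⟩, Subtype.ext (huniq (hspD _) d.2 fun u hu => ?_)⟩
    show f (sp ⟨b, hb⟩) u = _
    rw [← hspa ⟨b, hb⟩ u hu, e]
  rw [relIndex, hker, index_ker, MonoidHom.range_eq_top.2 hsurj, card_top, c.loc.gen.card]

/-- The natural block over the Baumann subgroup. -/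
theorem bblock : BBlock BB (resOf 2 X) (wOf 2 X) where
  wB := (c.w_le_v h).trans h.v_le_baumann
  wE := c.w_le_res h
  abel := fun u hu v hv => BlockLocation.omegaCenter_comm _ (c.w_le_v h hu) (c.w_le_v h hv)
  sq := fun u hu => by
    rw [← pow_two]; exact BlockLocation.pow_eq_one_of_mem_omegaCenter _ (c.w_le_v h hu)
  gen := fun N hN => Blocks.le_of_coprime_mem (p := 2) (CharP.resOf_resOf 2 X) fun x hx hcop =>
    hN x hx (Nat.coprime_two_right.1 hcop)
  bE := c.loc.base.trans (c.res_norm h)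
  eW := (CharP.resOf_le 2 X).trans (c.w_norm h)
  bW := c.loc.base.trans (c.w_norm h)
  core := fun S hS hp hn => (CharP.le_pCoreOf hS hn hp).trans (c.core_eq_w h (c.dist_eq_one h)).le
  cent := fun x hx hc => by
    obtain ⟨d, hd, -, hcomm, hact⟩ := c.exists_split h hx
    refine c.centralizes_of_fixes h hact ?_
    have hn := c.loc.natural h
    have hcd : ∀ l ∈ LL, d * l = l * d := fun l hl => by
      have hz : (resOf 2 X).map π ⊔ D ≤ centralizer ({d} : Set P) := by
        refine sup_le ?_ fun e he => mem_centralizer_singleton_iff.2 (c.loc.gen.off.comm e he d hd)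
        rintro _ ⟨e, he, rfl⟩
        refine mem_centralizer_singleton_iff.2 ?_
        have h1 : π ⁅x, e⁆ = 1 :=
          MonoidHom.mem_ker.1 (h.core_le_ker (h.v_le_core (c.w_le_v h (hc e he))))
        rw [map_commutatorElement, commutatorElement_eq_one_iff_mul_comm] at h1
        have h2 := hcomm (π e) (c.map_res_le h ⟨e, he, rfl⟩)
        calc π e * d = π e * π x * (d⁻¹ * π x)⁻¹ := by group
          _ = π x * π e * (d⁻¹ * π x)⁻¹ := by rw [h1]
          _ = π x * (π e * (d⁻¹ * π x)⁻¹) := by rw [mul_assoc]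
          _ = π x * ((d⁻¹ * π x)⁻¹ * π e) := by rw [((show Commute (d⁻¹ * π x) (π e) from h2).inv_left).eq]
          _ = d * π e := by group
      exact (mem_centralizer_singleton_iff.1 (hz (c.block_le h hl))).symm
    obtain ⟨K', iK, iKt, hK, ρ', ψ, hs, hk, hψ, hA, hX⟩ := hn.sl2
    obtain ⟨y, hy⟩ := hA ⟨d, hn.le hd⟩ hd
    obtain ⟨l, hl⟩ := ρ'.surjective (lowSL 1)
    have h3 := congrArg ρ' (show (⟨d, hn.le hd⟩ : ↥LL) * l = l * ⟨d, hn.le hd⟩ from Subtype.ext (hcd l l.2))
    rw [map_mul, map_mul, hy, hl] at h3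
    have h4 := congrArg (fun A : SL(2, K') => (A : Matrix (Fin 2) (Fin 2) K') 0 0) h3
    simp [coe_uniSL, coe_lowSL, Matrix.mul_apply, Fin.sum_univ_two] at h4
    rw [h4, uniSL_zero, ← map_one ρ'] at hy
    exact congrArg Subtype.val (ρ'.injective hy)
  conv := fun x hx hxc e he => by
    obtain ⟨d, hd, hmove, -, hact⟩ := c.exists_split h hx
    have hd1 : d = 1 := c.offender_free h hd fun u hu => by
      rw [c.fixes_of_mem_centralizer h hxc hact hu]; exact zero_mem _
    rw [hd1] at hmove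
    have hxQ := c.mem_core_of_trivial h (z := ⟨x, c.loc.base hx⟩) (fun v => by
      have h1 := hmove v
      rwa [inv_one, one_mul] at h1)
    exact c.comm_core_w h (c.dist_eq_one h) (commutator_mem_commutator ⟨_, hxQ, rfl⟩ he)
  irr := fun S hS hE hB => by
    have hn : X ≤ normalizer (S : Set G) := (c.res_sup_baumann h).symm.le.trans (sup_le hE hB)
    refine (c.cover_or h (hS.trans (c.w_le_v h)) hn).imp id fun hcov => ?_
    rw [← c.w_eq h]
    refine commutator_le.2 fun w hw e he => ?_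
    obtain ⟨u', rfl⟩ := h.onto w (c.w_le_v h hw)
    obtain ⟨u, hu, hz⟩ := hcov u'
    have hzc := (c.fixed_iff_centralizes h).1 hz
    rw [show u' = u + (u' - u) by rw [add_sub_cancel], h.add, commutatorElement_mul_left_eq_conj_mul,
      commutatorElement_eq_one_iff_mul_comm.2 (hzc e he).symm, mul_one, mul_inv_cancel, one_mul,
      commutatorElement_def, show j u * e * (j u)⁻¹ * e⁻¹ = j u * (e * (j u)⁻¹ * e⁻¹) by group]
    exact mul_mem hu ((mem_normalizer_iff.1 (hE he) _).1 (inv_mem hu))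
  ymove := fun hle => by
    obtain ⟨d, hd, hd1⟩ := D.bot_or_exists_ne_one.resolve_left c.loc.gen.off.ne_bot
    obtain ⟨b, hb, hbd⟩ := c.exists_lift_mem h hd
    refine hd1 (c.offender_free h hd fun u hu => ?_)
    exact (c.comm_mem_centralizer h (b := b) (d := d) (u := u) (by rw [hbd])).1
      (hle (commutator_mem_commutator hu hb))
  line := fun b hb hbn w hw hc => by
    obtain ⟨d, hd, -, -, hact⟩ := c.exists_split h hb
    have hd1 : d ≠ 1 := fun e => hbn (c.centralizes_of_fixes h hact e)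
    obtain ⟨u, rfl⟩ := h.onto w (c.w_le_v h hw)
    exact (c.j_mem_centralizer h hw).2 ((c.loc.natural h).free hd hd1
      ((c.comm_mem_centralizer h (hact u hw)).1 hc))
  idx := (c.idx_left h).trans (c.idx_right h).symm

theorem sup_top : resOf 2 X ⊔ (T : Subgroup G) = ⊤ := by
  by_contra hne
  have h1 := h.uniq _ le_sup_right hne
  refine c.not_le_m h ?_
  rw [← c.res_sup_baumann h]
  exact sup_le (le_sup_left.trans h1) ((BlockBasic.baumann_le _).trans h.le)

theorem normal_of_normalized {S : Subgroup G} (hE : resOf 2 X ≤ normalizer (S : Set G))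
    (hT : (T : Subgroup G) ≤ normalizer (S : Set G)) : S.Normal :=
  normalizer_eq_top_iff.1 (top_unique ((c.sup_top h).ge.trans (sup_le hE hT)))

theorem module_central {S : Subgroup G} (hS : IsPGroup 2 S) (hE : resOf 2 X ≤ normalizer (S : Set G))
    (hT : (T : Subgroup G) ≤ normalizer (S : Set G)) : S ≤ centralizer (wOf 2 X : Set G) := fun x hx w hw =>
  (h.v_comm (c.w_le_v h hw) (CharP.le_pCore (c.normal_of_normalized h hE hT) hS hx)).symm

/-- An `E × Ω₁Z(J(T))` argument: the residual centralises a normal subgroup as soon as it centralises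
its intersection with the Baumann subgroup. -/
theorem centralizes {S : Subgroup G} (hS : IsPGroup 2 S) (hE : resOf 2 X ≤ normalizer (S : Set G))
    (hT : (T : Subgroup G) ≤ normalizer (S : Set G))
    (hc : resOf 2 X ≤ centralizer ((S ⊓ BB : Subgroup G) : Set G)) :
    resOf 2 X ≤ centralizer (S : Set G) := by
  haveI := c.normal_of_normalized h hE hT
  have hSQ : S ≤ pCore 2 G := CharP.le_pCore inferInstance hS
  set A := pCore 2 G ⊓ centralizer (X : Set G) with hA
  refine Blocks.le_of_coprime_mem (p := 2) (CharP.resOf_resOf 2 X) fun d hd hcop => ?_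
  refine Coprime.le_centralizer_of_pxq ((CharP.isPGroup_pCore 2 G).to_le inf_le_left) (P := A)
    (Q := zpowers d) (by rwa [Nat.card_zpowers]) hS ?_ le_normalizer_of_normal le_normalizer_of_normal ?_
    (mem_zpowers d)
  · exact inf_le_right.trans (Subgroup.centralizer_le (zpowers_le.2 (CharP.resOf_le 2 X hd)))
  · rintro y ⟨hyS, hyA⟩
    have hyB : y ∈ BB := by
      refine ⟨h.core_le (hSQ hyS), fun x hx => ?_⟩
      obtain ⟨δ, v, hδ, rfl, hδc⟩ := c.loc.fixes x hx
      have h1 : δ * y = y * δ := hyA δ ⟨hδ, fun z hz => mem_centralizer_singleton_iff.1 (hδc hz)⟩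
      rw [mul_assoc, ← h.v_comm (h.mem v) (hSQ hyS), ← mul_assoc, h1, mul_assoc]
    exact le_centralizer_iff.1 (zpowers_le.2 (hc hd)) (Subgroup.mem_inf.2 ⟨hyS, hyB⟩)

end Piece

end Cfsg.Agent.PLocal.PushUp
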