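import Cfsg.Agent.Lib.PLocal.CommonNormal.Piece
import Cfsg.Agent.Lib.PLocal.PushUp.Main
import Cfsg.Agent.Lib.CharP.PushingUpMCL

/-!
A natural block in a minimal subgroup in which nothing is pushed up, in ambient terms.
-/

set_option autoImplicit false
set_option linter.unusedSectionVars false
set_option linter.style.longLine false
set_option linter.style.haveILetI false

namespace Cfsg.Agent.PLocal.CommonNormal

open Cfsg Subgroup
open Cfsg.Agent.PLocal.PushUp (ctx_elim)

variable {G : Type*} [Group G] [Finite G]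

theorem map_baumann {G' : Type*} [Group G'] [Finite G'] {φ : G →* G'} (hφ : Function.Injective φ)
    (S : Subgroup G) : (baumannSubgroupOf 2 S).map φ = baumannSubgroupOf 2 (S.map φ) := by
  have hcent : ∀ A C : Subgroup G,
      (A ⊓ centralizer (C : Set G)).map φ = A.map φ ⊓ centralizer (C.map φ : Set G') := by
    intro A C
    ext z
    constructor
    · rintro ⟨a, ⟨ha, hc⟩, rfl⟩
      exact ⟨⟨a, ha, rfl⟩, (mem_centralizer_map hφ C a).2 hc⟩
    · rintro ⟨⟨a, ha, rfl⟩, hc⟩
      exact ⟨a, ⟨ha, (mem_centralizer_map hφ C a).1 hc⟩, rfl⟩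
  simp only [baumannSubgroupOf, centerThompsonOf]
  rw [hcent, Omega.map_omegaOne hφ, hcent, ThompsonSubgroup.map_thompsonSubgroupOf hφ]

/-- The block and the two properties of the core used later. -/
theorem exists_seed {P R M : Subgroup G} (hS : CharP.IsSylIn 2 R P) (hc : CharP.IsCharP 2 P)
    (hR : ¬ P ≤ normalizer (R : Set G)) (hMP : M < P) (hRM : R ≤ M)
    (huniq : ∀ X : Subgroup G, R ≤ X → X < P → X ≤ M)
    (hchar : ∀ C : Subgroup G, C ≤ baumannSubgroupOf 2 R → C ≠ ⊥ →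
      (C.subgroupOf (baumannSubgroupOf 2 R)).Characteristic → ¬ P ≤ normalizer (C : Set G))
    (hz : ¬ P ≤ normalizer (omegaOneCenter 2 R : Set G)) :
    ∃ E W, E ≤ P ∧ P ≤ E ⊔ R ∧ BBlock (baumannSubgroupOf 2 R) E W ∧
      (∀ S : Subgroup G, S ≤ P → IsPGroup 2 S → P ≤ normalizer (S : Set G) →
        S ≤ centralizer (W : Set G)) ∧
      W ≤ pCoreOf 2 P ∧
      (∀ S : Subgroup G, S ≤ P → IsPGroup 2 S → P ≤ normalizer (S : Set G) →
        E ≤ centralizer ((S ⊓ baumannSubgroupOf 2 R : Subgroup G) : Set G) → E ≤ centralizer (S : Set G)) := by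
  classical
  have hRP : R ≤ P := hS.le
  obtain ⟨S₀, hS₀⟩ := id hS
  have hS₀' : (S₀ : Subgroup ↥P) = R.subgroupOf P := by
    rw [← hS₀, subgroupOf, comap_map_eq_self_of_injective P.subtype_injective]
  have hmap : ∀ {X : Subgroup ↥P}, X.Normal → P ≤ normalizer (X.map P.subtype : Set G) := by
    intro X hX
    haveI := hX
    exact (normal_subgroupOf_iff_le_normalizer (map_subtype_le X)).1 (by
      rwa [subgroupOf, comap_map_eq_self_of_injective P.subtype_injective])
  have hB : (baumannSubgroupOf 2 (S₀ : Subgroup ↥P)).map P.subtype = baumannSubgroupOf 2 R := by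
    rw [map_baumann P.subtype_injective, hS₀]
  have hco : IsCoatom (M.subgroupOf P) := by
    refine ⟨fun e => hMP.not_ge (subgroupOf_eq_top.1 e), fun Y hY => ?_⟩
    by_contra hne
    have h1 : Y.map P.subtype < P := lt_of_le_of_ne (map_subtype_le Y) fun e => hne
      (map_injective P.subtype_injective (e.trans (by rw [← MonoidHom.range_eq_map, range_subtype])))
    have h2 := huniq (Y.map P.subtype) (fun r hr => ⟨⟨r, hRP hr⟩, hY.le (hRM hr), rfl⟩) h1
    exact hY.not_ge fun y hy => h2 ⟨y, hy, rfl⟩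
  have hmin1 : ∀ Y : Subgroup ↥P, IsCoatom Y ∧ (S₀ : Subgroup ↥P) ≤ Y → Y = M.subgroupOf P := by
    rintro Y ⟨hY, hSY⟩
    have h1 : Y.map P.subtype < P := lt_of_le_of_ne (map_subtype_le Y) fun e => hY.1
      (map_injective P.subtype_injective (e.trans (by rw [← MonoidHom.range_eq_map, range_subtype])))
    have h2 := huniq _ (hS₀ ▸ map_mono hSY) h1
    have h3 : Y ≤ M.subgroupOf P := fun y hy => h2 ⟨y, hy, rfl⟩
    exact ((hY.le_iff.1 h3).resolve_left hco.1).symm
  have hmin : IsPMinimal 2 ↥P := by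
    intro S
    obtain ⟨g, rfl⟩ := MulAction.exists_smul_eq ↥P S₀ S
    have hco' : ∀ {Y : Subgroup ↥P}, IsCoatom Y → ∀ a : ↥P, IsCoatom (cj a Y) := fun {Y} hY a =>
      ((MulAut.conj a).mapSubgroup.isCoatom_iff Y).2 hY
    have hs : ((g • S₀ : Sylow 2 ↥P) : Subgroup ↥P) = cj g (S₀ : Subgroup ↥P) := rfl
    constructor
    · intro hn
      refine hR (?_ : P ≤ _)
      rw [← hS₀]
      refine hmap ?_
      have e : ((g • S₀ : Sylow 2 ↥P) : Subgroup ↥P) = (S₀ : Subgroup ↥P) := by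
        haveI := hn
        exact congrArg _ ((Sylow.unique_of_normal _ hn).uniq S₀ ▸ (Sylow.unique_of_normal _ hn).uniq _)
      exact e ▸ hn
    · refine ⟨cj g (M.subgroupOf P), ⟨hco' hco g, hs ▸ cj_mono g (hS₀'.le.trans (comap_mono hRM))⟩, ?_⟩
      rintro Y ⟨hY, hSY⟩
      have h1 := hmin1 (cj g⁻¹ Y) ⟨hco' hY g⁻¹, by
        have := cj_mono g⁻¹ (hs ▸ hSY : cj g (S₀ : Subgroup ↥P) ≤ Y)
        rwa [cj_cj, inv_mul_cancel, cj_one] at this⟩
      rw [← h1, cj_cj, mul_inv_cancel, cj_one]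
  refine ctx_elim hmin ((CharP.isCharP_iff P).1 hc) S₀ ?_ ?_ fun {Pb U} _ _ _ _ _ {Mc Tb Mb f π j q} h => ?_
  · intro C hCB hC hch hn
    refine hchar (C.map P.subtype) (hB ▸ map_mono hCB)
      (fun e => hC ((map_eq_bot_iff_of_injective _ P.subtype_injective).1 e)) ?_ (hmap hn)
    haveI := hch
    rw [← hB]
    have e : (C.map P.subtype).subgroupOf ((baumannSubgroupOf 2 (S₀ : Subgroup ↥P)).map P.subtype) =
        (C.subgroupOf (baumannSubgroupOf 2 (S₀ : Subgroup ↥P))).map
          (equivMapOfInjective _ _ P.subtype_injective).toMonoidHom := by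
      ext x
      constructor
      · rintro ⟨y, hy, hyx⟩
        exact ⟨⟨y, hCB hy⟩, hy, Subtype.ext hyx⟩
      · rintro ⟨y, hy, rfl⟩
        exact ⟨(y : ↥P), hy, rfl⟩
    rw [e]
    refine characteristic_iff_map_le.2 fun α => ?_
    rintro _ ⟨_, ⟨r, hr, rfl⟩, rfl⟩
    set eB := equivMapOfInjective (baumannSubgroupOf 2 (S₀ : Subgroup ↥P)) _ P.subtype_injective
    exact ⟨(eB.trans (α.trans eB.symm)) r,
      (characteristic_iff_map_le.1 hch (eB.trans (α.trans eB.symm))) ⟨r, hr, rfl⟩, by simp⟩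
  · intro hn
    refine hz ?_
    rw [← hS₀, ← CharP.PushingUpMCL.map_omegaOneCenter P.subtype_injective]
    exact hmap hn
  · obtain ⟨D, hD, hDT⟩ := h.frame.gen_in_syl h.syl
    obtain ⟨X, K, iK, iKt, n, φ, ρ, c⟩ := h.exists_piece hD hDT
    refine ⟨(Cfsg.Agent.CharP.resOf 2 X).map P.subtype, (PushUp.wOf 2 X).map P.subtype, map_subtype_le _,
      ?_, hB ▸ (c.bblock h).map P.subtype_injective, ?_, map_mono ((c.w_le_v h).trans h.v_le_core), ?_⟩
    · rw [← hS₀, ← Subgroup.map_sup, c.sup_top h, ← MonoidHom.range_eq_map, range_subtype]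
    · intro S hSP hSp hn
      have hn' : ∀ Y : Subgroup ↥P, Y ≤ normalizer (S.subgroupOf P : Set ↥P) := fun Y => by
        haveI := (normal_subgroupOf_iff_le_normalizer hSP).2 hn
        exact le_normalizer_of_normal
      rintro x hx
      exact (mem_centralizer_map P.subtype_injective _ ⟨x, hSP hx⟩).2
        (c.module_central h hSp.comap_subtype (hn' _) (hn' _) hx)
    · intro S hSP hSp hn hcS
      have hn' : ∀ Y : Subgroup ↥P, Y ≤ normalizer (S.subgroupOf P : Set ↥P) := fun Y => by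
        haveI := (normal_subgroupOf_iff_le_normalizer hSP).2 hn
        exact le_normalizer_of_normal
      have h1 := c.centralizes h hSp.comap_subtype (hn' _) (hn' _) fun e he y hy =>
        Subtype.ext (hcS ⟨e, he, rfl⟩ (y : G) (Subgroup.mem_inf.2 ⟨hy.1, hB.le ⟨y, hy.2, rfl⟩⟩))
      rintro _ ⟨e, he, rfl⟩ s hs
      exact congrArg Subtype.val (h1 he ⟨s, hSP hs⟩ hs)

end Cfsg.Agent.PLocal.CommonNormal
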